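import Groth.Prelude.Def_EtBase
import Groth.Agent.EtPtsLib.Opens
import Groth.Agent.EtLimLib.Deg0
import Groth.Agent.EtClosedPts.PointStalk
import Groth.Agent.FLCLib.Efface
import Groth.Agent.FLCLib.Ops
import Groth.Agent.S0125
import Groth.Agent.FppfCmp.Exact
import Groth.Agent.RDerLib.Horseshoe

/-!
# Torsion étale sheaves acyclic for all direct images along qcqs morphisms

The torsion part `J` of an injective sheaf `I` is acyclic: higher direct images of `J` are torsion, and they are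
uniquely divisible as well, since `I` and `I/J` have divisible resp. uniquely divisible sections.
-/

set_option autoImplicit false
set_option backward.isDefEq.respectTransparency false
set_option backward.isDefEq.respectTransparency.types false
set_option linter.style.haveILetI false
set_option maxHeartbeats 800000

universe u

open CategoryTheory CategoryTheory.Limits AlgebraicGeometry Opposite

noncomputable section

namespace Groth.Agent.PBCCons

variable {X Y : Scheme.{u}}

theorem isTorsion_of_epi {F G : EtCoh.Ab X} (a : F ⟶ G) [Epi a] (hF : EtCoh.IsTorsion F) : EtCoh.IsTorsion G := by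
  intro U s x
  haveI : Sheaf.IsLocallySurjective a := (Sheaf.isLocallySurjective_iff_epi' AddCommGrpCat.{u + 1} a).2 ‹_›
  obtain ⟨W, g, w, ⟨t, ht⟩, hw⟩ :=
    EtPtsLib.exists_mem_of_covering (Presheaf.imageSieve_mem X.smallEtaleTopology a.hom (U := op U) s) x
  obtain ⟨V, g', ⟨v, hv⟩, h0⟩ := hF W t w
  refine ⟨V, g' ≫ g, ⟨v, ?_⟩, ?_⟩
  · show (g'.left ≫ g.left) v = x
    rw [Scheme.Hom.comp_apply]
    exact (congrArg g.left hv).trans hw
  · have e : a.hom.app (op V) (F.obj.map g'.op t) = G.obj.map (g' ≫ g).op s := by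
      rw [NatTrans.naturality_apply, ht, op_comp, Functor.map_comp]
      rfl
    exact e ▸ (a.hom.app (op V)).hom.isOfFinAddOrder h0

theorem isTorsion_of_iso {F G : EtCoh.Ab X} (e : F ≅ G) (hF : EtCoh.IsTorsion F) : EtCoh.IsTorsion G :=
  isTorsion_of_epi e.hom hF

theorem isTorsion_push (f : X ⟶ Y) [QuasiCompact f] [QuasiSeparated f] {F : EtCoh.Ab X} (hF : EtCoh.IsTorsion F) :
    EtCoh.IsTorsion ((EtCoh.push f).obj F) := by
  haveI : PreservesLimitsOfSize.{0, 0} (EtCoh.push f) := (EtCoh.pullPushAdj f).rightAdjoint_preservesLimits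
  haveI : PreservesFiniteLimits (EtCoh.push f) := PreservesLimitsOfSize.preservesFiniteLimits _
  exact isTorsion_of_iso ((Functor.rightDerivedZeroIsoSelf (EtCoh.push f)).app F) (S0125.result f F hF 0)

theorem isTorsion_Rpush (f : X ⟶ Y) [QuasiCompact f] [QuasiSeparated f] {F : EtCoh.Ab X} (hF : EtCoh.IsTorsion F)
    (n : ℕ) : EtCoh.IsTorsion ((EtCoh.Rpush f n).obj F) :=
  S0125.result f F hF n

theorem isTorsion_pull (f : X ⟶ Y) {F : EtCoh.Ab Y} (hF : EtCoh.IsTorsion F) :
    EtCoh.IsTorsion ((EtCoh.pull f).obj F) := by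
  refine EtClosedPts.isTorsion_of_stalks fun Ω _ _ ζ b => ?_
  let e := (EtPtsLib.pullStalkIso f ζ AddCommGrpCat.{u + 1}).app F
  have hb := (e.inv.hom).isOfFinAddOrder (EtClosedPts.isOfFinAddOrder_of_isTorsion (ζ ≫ f) hF (e.hom b))
  have e1 : e.inv (e.hom b) = b := e.hom_inv_id_apply b
  exact e1 ▸ hb

theorem nsmul_id_app (F : EtCoh.Ab X) (n : ℕ) (U : X.Etale) (s : EtCoh.sect F U) :
    ((n • 𝟙 F : F ⟶ F)).hom.app (op U) s = n • s := rfl

theorem sect_eq_zero_of_local {F : EtCoh.Ab X} {U : X.Etale} (s : EtCoh.sect F U)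
    (h : ∀ x : U.left, ∃ (V : X.Etale) (g : V ⟶ U), (∃ v, g.left v = x) ∧ F.obj.map g.op s = 0) : s = 0 :=
  EtLimLib.eq_of_map_eq F s 0 fun x => by
    obtain ⟨V, g, ⟨v, hv⟩, h0⟩ := h x
    exact ⟨V, g, v, h0.trans (map_zero _).symm, hv⟩

/-- A torsion sheaf on which every positive integer acts invertibly is zero. -/
theorem isZero_of_torsion_of_isIso {F : EtCoh.Ab X} (hF : EtCoh.IsTorsion F)
    (h : ∀ n : ℕ, 0 < n → IsIso (n • 𝟙 F)) : IsZero F := by
  rw [IsZero.iff_id_eq_zero]
  apply ObjectProperty.hom_ext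
  ext ⟨U⟩ s
  show s = 0
  refine sect_eq_zero_of_local s fun x => ?_
  obtain ⟨V, g, hv, h0⟩ := hF U s x
  obtain ⟨n, hn, h0⟩ := isOfFinAddOrder_iff_nsmul_eq_zero.1 h0
  haveI := h n hn
  haveI : IsIso ((n • 𝟙 F : F ⟶ F).hom) := inferInstanceAs (IsIso ((sheafToPresheaf _ _).map (n • 𝟙 F)))
  haveI : IsIso ((n • 𝟙 F : F ⟶ F).hom.app (op V)) := inferInstance
  refine ⟨V, g, hv, (ConcreteCategory.bijective_of_isIso ((n • 𝟙 F : F ⟶ F).hom.app (op V))).1 ?_⟩
  rw [nsmul_id_app, map_zero]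
  exact h0

/-! ### The torsion part -/

variable (I : EtCoh.Ab X)

/-- The locally torsion sections. -/
def torsSects (U : X.Etale) : AddSubgroup (EtCoh.sect I U) where
  carrier := {s | ∀ x : U.left, ∃ (V : X.Etale) (g : V ⟶ U), (∃ v, g.left v = x) ∧
    IsOfFinAddOrder (I.obj.map g.op s)}
  zero_mem' x := ⟨U, 𝟙 U, ⟨x, rfl⟩, by rw [map_zero]; exact IsOfFinAddOrder.zero⟩
  add_mem' {s t} hs ht x := by
    obtain ⟨V, g, ⟨v, rfl⟩, h1⟩ := hs x
    obtain ⟨V', g', ⟨v', hv'⟩, h2⟩ := ht (g.left v)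
    obtain ⟨w, hw, hw'⟩ := Scheme.Pullback.exists_preimage_pullback v v'
      (f := g.left) (g := g'.left) hv'.symm
    haveI := EtPtsLib.etale_left g
    haveI := EtPtsLib.etale_left g'
    let W : X.Etale := Scheme.Etale.mk (pullback.fst g.left g'.left ≫ V.hom)
    let a : W ⟶ V := MorphismProperty.Over.homMk (pullback.fst g.left g'.left) rfl
    let b : W ⟶ V' := MorphismProperty.Over.homMk (pullback.snd g.left g'.left) (by
      show pullback.snd g.left g'.left ≫ V'.hom = pullback.fst g.left g'.left ≫ V.hom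
      rw [← MorphismProperty.Over.w g', ← MorphismProperty.Over.w g, ← Category.assoc, ← Category.assoc,
        pullback.condition])
    have hab : a ≫ g = b ≫ g' := MorphismProperty.Over.Hom.ext pullback.condition
    refine ⟨W, a ≫ g, ⟨w, ?_⟩, ?_⟩
    · show (pullback.fst g.left g'.left ≫ g.left) w = _
      rw [Scheme.Hom.comp_apply, hw]
    · rw [map_add]
      refine (AddCommute.all _ _).isOfFinAddOrder_add ?_ ?_
      · rw [op_comp, Functor.map_comp]
        exact (I.obj.map a.op).hom.isOfFinAddOrder h1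
      · rw [hab, op_comp, Functor.map_comp]
        exact (I.obj.map b.op).hom.isOfFinAddOrder h2
  neg_mem' {s} hs x := by
    obtain ⟨V, g, hv, h1⟩ := hs x
    exact ⟨V, g, hv, by rw [map_neg]; exact h1.neg⟩

theorem torsSects_map {U U' : X.Etale} (i : U' ⟶ U) {s : EtCoh.sect I U} (hs : s ∈ torsSects I U) :
    I.obj.map i.op s ∈ torsSects I U' := fun x => by
  obtain ⟨V, g, ⟨v, hv⟩, h1⟩ := hs (i.left x)
  obtain ⟨w, hw, hw'⟩ := Scheme.Pullback.exists_preimage_pullback x v (f := i.left) (g := g.left) hv.symm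
  haveI := EtPtsLib.etale_left i
  haveI := EtPtsLib.etale_left g
  let W : X.Etale := Scheme.Etale.mk (pullback.fst i.left g.left ≫ U'.hom)
  let a : W ⟶ U' := MorphismProperty.Over.homMk (pullback.fst i.left g.left) rfl
  let b : W ⟶ V := MorphismProperty.Over.homMk (pullback.snd i.left g.left) (by
    show pullback.snd i.left g.left ≫ V.hom = pullback.fst i.left g.left ≫ U'.hom
    rw [← MorphismProperty.Over.w i, ← MorphismProperty.Over.w g, ← Category.assoc, ← Category.assoc,
      pullback.condition])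
  have hab : a ≫ i = b ≫ g := MorphismProperty.Over.Hom.ext pullback.condition
  refine ⟨W, a, ⟨w, hw⟩, ?_⟩
  have e : I.obj.map a.op (I.obj.map i.op s) = I.obj.map b.op (I.obj.map g.op s) := by
    rw [← ConcreteCategory.comp_apply, ← Functor.map_comp, ← op_comp, hab, op_comp, Functor.map_comp]
    rfl
  rw [e]
  exact (I.obj.map b.op).hom.isOfFinAddOrder h1

/-- The presheaf of locally torsion sections. -/
def torsPre : X.Etaleᵒᵖ ⥤ AddCommGrpCat.{u + 1} where
  obj U := AddCommGrpCat.of (torsSects I U.unop)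
  map {U V} i := AddCommGrpCat.ofHom
    (((I.obj.map i).hom.comp (torsSects I U.unop).subtype).codRestrict _
      fun s => torsSects_map I i.unop s.2)
  map_id U := by
    ext s
    exact ConcreteCategory.congr_hom (I.obj.map_id U) s.1
  map_comp i j := by
    ext s
    exact ConcreteCategory.congr_hom (I.obj.map_comp i j) s.1

theorem torsPre_isSheaf : Presheaf.IsSheaf X.smallEtaleTopology (torsPre I) := by
  refine (Presheaf.isSheaf_iff_isSheaf_forget _ _ (forget AddCommGrpCat.{u + 1})).2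
    ((isSheaf_iff_isSheaf_of_type _ _).2 fun U R hR fam hfam => ?_)
  have hI := (isSheaf_iff_isSheaf_of_type _ _).1
    ((Presheaf.isSheaf_iff_isSheaf_forget _ _ (forget AddCommGrpCat.{u + 1})).1 I.property) R hR
  let fam' : Presieve.FamilyOfElements (I.obj ⋙ forget AddCommGrpCat.{u + 1}) R.arrows := fun W g hg => (fam g hg).1
  have hfam' : fam'.Compatible := fun W₁ W₂ Z g₁ g₂ f₁ f₂ h₁ h₂ e => congrArg Subtype.val (hfam g₁ g₂ h₁ h₂ e)
  obtain ⟨t, ht, huniq⟩ := hI fam' hfam'
  have htt : t ∈ torsSects I U := fun x => by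
    obtain ⟨W, f, w, hf, hw⟩ := EtPtsLib.exists_mem_of_covering hR x
    obtain ⟨V, g, ⟨v, hv⟩, h0⟩ := (fam f hf).2 w
    refine ⟨V, g ≫ f, ⟨v, ?_⟩, ?_⟩
    · show (g.left ≫ f.left) v = x
      rw [Scheme.Hom.comp_apply]
      exact (congrArg f.left hv).trans hw
    · rw [op_comp, Functor.map_comp, ConcreteCategory.comp_apply]
      exact (congrArg (I.obj.map g.op) (ht f hf).symm) ▸ h0
  refine ⟨⟨t, htt⟩, fun W g hg => Subtype.ext (ht g hg), fun y hy => Subtype.ext ?_⟩
  exact huniq y.1 fun W g hg => congrArg Subtype.val (hy g hg)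

/-- The torsion part of a sheaf. -/
def torsPart : EtCoh.Ab X := ⟨torsPre I, torsPre_isSheaf I⟩

/-- The inclusion of the torsion part. -/
def torsIncl : torsPart I ⟶ I :=
  ⟨{ app := fun U => AddCommGrpCat.ofHom (torsSects I U.unop).subtype
     naturality := fun _ _ _ => rfl }⟩

instance mono_torsIncl : Mono (torsIncl I) := by
  haveI : ∀ U, Mono ((torsIncl I).hom.app U) := fun U =>
    (AddCommGrpCat.mono_iff_injective _).2 Subtype.val_injective
  haveI : Mono (torsIncl I).hom := NatTrans.mono_of_mono_app _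
  exact (sheafToPresheaf _ _).mono_of_mono_map (f := torsIncl I) ‹_›

theorem isTorsion_torsPart : EtCoh.IsTorsion (torsPart I) := fun U s x => by
  obtain ⟨V, g, hv, h0⟩ := s.2 x
  obtain ⟨n, hn, h0⟩ := isOfFinAddOrder_iff_nsmul_eq_zero.1 h0
  refine ⟨V, g, hv, isOfFinAddOrder_iff_nsmul_eq_zero.2 ⟨n, hn, Subtype.ext ?_⟩⟩
  exact ((torsSects I V).subtype.map_nsmul n _).trans h0

/-- A map from a torsion sheaf factors through the torsion part. -/
theorem exists_fac_torsPart {F : EtCoh.Ab X} (hF : EtCoh.IsTorsion F) (a : F ⟶ I) :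
    ∃ b : F ⟶ torsPart I, b ≫ torsIncl I = a := by
  refine ⟨⟨{ app := fun U => AddCommGrpCat.ofHom ((a.hom.app U).hom.codRestrict _ fun s x => ?_),
             naturality := fun U V i => ?_ }⟩, rfl⟩
  · obtain ⟨V, g, hv, h0⟩ := hF U.unop s x
    refine ⟨V, g, hv, ?_⟩
    have := (a.hom.app (op V)).hom.isOfFinAddOrder h0
    rwa [show (a.hom.app (op V)).hom (F.obj.map g.op s) = I.obj.map g.op (a.hom.app U s) from
      NatTrans.naturality_apply a.hom g.op s] at this
  · ext s
    exact Subtype.ext (NatTrans.naturality_apply a.hom i s)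

theorem mem_torsSects_of_nsmul {U : X.Etale} (s : EtCoh.sect I U) {n : ℕ} (hn : 0 < n)
    (h : n • s ∈ torsSects I U) : s ∈ torsSects I U := fun x => by
  obtain ⟨V, g, hv, h0⟩ := h x
  obtain ⟨m, hm, h0⟩ := isOfFinAddOrder_iff_nsmul_eq_zero.1 h0
  refine ⟨V, g, hv, isOfFinAddOrder_iff_nsmul_eq_zero.2 ⟨m * n, Nat.mul_pos hm hn, ?_⟩⟩
  rw [mul_nsmul', ← map_nsmul]
  exact h0

/-- The sequence of the torsion part. -/
abbrev torsSeq : ShortComplex (EtCoh.Ab X) :=
  ShortComplex.mk (torsIncl I) (cokernel.π (torsIncl I)) (cokernel.condition _)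

theorem shortExact_torsSeq : (torsSeq I).ShortExact :=
  { exact := ShortComplex.exact_cokernel _ }

variable [Injective I]

theorem epi_nsmul_of_injective {n : ℕ} (hn : 0 < n) : Epi (n • 𝟙 I : I ⟶ I) := by
  haveI : ∀ U, Epi ((n • 𝟙 I : I ⟶ I).hom.app U) := fun U =>
    (AddCommGrpCat.epi_iff_surjective _).2 fun s => by
      obtain ⟨t, ht⟩ := FLCLib.exists_nsmul_eq_sect (I := I) hn U.unop s
      exact ⟨t, ht⟩
  haveI : Epi (n • 𝟙 I : I ⟶ I).hom := NatTrans.epi_of_epi_app _
  exact (sheafToPresheaf _ _).epi_of_epi_map (f := (n • 𝟙 I : I ⟶ I)) ‹_›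

/-- Positive integers act invertibly on the quotient of an injective sheaf by its torsion. -/
theorem isIso_nsmul_coker {n : ℕ} (hn : 0 < n) : IsIso (n • 𝟙 (torsSeq I).X₃) := by
  let p := cokernel.π (torsIncl I)
  haveI : Epi (n • 𝟙 (torsSeq I).X₃) := by
    haveI := epi_nsmul_of_injective I hn
    have e : (n • 𝟙 I) ≫ p = p ≫ (n • 𝟙 (torsSeq I).X₃) := by
      rw [Preadditive.nsmul_comp, Preadditive.comp_nsmul, Category.id_comp, Category.comp_id]
    haveI : Epi (p ≫ (n • 𝟙 (torsSeq I).X₃)) := e ▸ epi_comp _ _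
    exact epi_of_epi p _
  haveI : Mono (n • 𝟙 (torsSeq I).X₃) := by
    haveI : ∀ U, Mono ((n • 𝟙 (torsSeq I).X₃).hom.app U) := fun U =>
      (AddCommGrpCat.mono_iff_injective _).2 <| (injective_iff_map_eq_zero _).2 fun q hq => by
        refine sect_eq_zero_of_local q fun x => ?_
        haveI : Sheaf.IsLocallySurjective p :=
          (Sheaf.isLocallySurjective_iff_epi' AddCommGrpCat.{u + 1} p).2 inferInstance
        obtain ⟨W, g, w, ⟨t, ht⟩, hw⟩ := EtPtsLib.exists_mem_of_covering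
          (Presheaf.imageSieve_mem X.smallEtaleTopology p.hom (U := U) q) x
        refine ⟨W, g, ⟨w, hw⟩, ?_⟩
        rw [← ht]
        have h1 : p.hom.app (op W) (n • t) = 0 := by
          rw [map_nsmul, ht, ← map_nsmul]
          exact (congrArg _ hq).trans (map_zero _)
        haveI := (shortExact_torsSeq I).mono_f
        obtain ⟨y, hy⟩ := FppfCmp.exists_of_exact_mono (S := torsSeq I) (shortExact_torsSeq I).exact W (n • t) h1
        have h2 : n • t ∈ torsSects I W := hy ▸ y.2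
        let y' : (torsPart I).obj.obj (op W) := ⟨t, mem_torsSects_of_nsmul I t hn h2⟩
        exact ConcreteCategory.congr_hom
          (congrArg (fun a : torsPart I ⟶ (torsSeq I).X₃ => a.hom.app (op W)) (torsSeq I).zero) y'
    haveI : Mono (n • 𝟙 (torsSeq I).X₃).hom := NatTrans.mono_of_mono_app _
    exact (sheafToPresheaf _ _).mono_of_mono_map (f := (n • 𝟙 (torsSeq I).X₃)) ‹_›
  exact isIso_of_mono_of_epi _

theorem isIso_nsmul_map (G : EtCoh.Ab X ⥤ EtCoh.Ab Y) [G.Additive] {n : ℕ} (hn : 0 < n) :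
    IsIso (n • 𝟙 (G.obj (torsSeq I).X₃)) := by
  haveI := isIso_nsmul_coker I hn
  rw [← G.map_id, ← G.map_nsmul]
  infer_instance

/-- Higher direct images along qcqs morphisms of the torsion part of an injective sheaf vanish. -/
theorem isZero_Rpush_torsPart (f : X ⟶ Y) [QuasiCompact f] [QuasiSeparated f] (q : ℕ) :
    IsZero ((EtCoh.Rpush f (q + 1)).obj (torsPart I)) := by
  obtain ⟨Δ⟩ := RDerLib.nonempty_derivedLES (EtCoh.push f)
  have hS := shortExact_torsSeq I
  have hI : ∀ k, IsZero ((EtCoh.Rpush f (k + 1)).obj I) := fun k =>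
    Functor.isZero_rightDerived_obj_injective_succ (EtCoh.push f) k I
  have htors : EtCoh.IsTorsion ((EtCoh.Rpush f (q + 1)).obj (torsPart I)) :=
    isTorsion_Rpush f (isTorsion_torsPart I) _
  haveI hepi : Epi (Δ.δ _ hS q (q + 1) rfl) := (Δ.exact₁ _ hS q (q + 1) rfl).epi_f ((hI q).eq_of_tgt _ _)
  rcases q with _ | q
  · refine IsZero.of_epi_eq_zero (Δ.δ _ hS 0 1 rfl) ?_
    apply ObjectProperty.hom_ext
    ext ⟨U⟩ y
    refine sect_eq_zero_of_local _ fun x => ?_
    obtain ⟨V, g, ⟨v, hv⟩, h0⟩ := htors U ((Δ.δ _ hS 0 1 rfl).hom.app (op U) y) x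
    obtain ⟨n, hn, h0⟩ := isOfFinAddOrder_iff_nsmul_eq_zero.1 h0
    let R₀ := EtCoh.Rpush f 0
    let yV := (R₀.obj (torsSeq I).X₃).obj.map g.op y
    have hker : (Δ.δ _ hS 0 1 rfl).hom.app (op V) (n • yV) = 0 := by
      rw [map_nsmul, NatTrans.naturality_apply]
      exact h0
    have hmem := FppfCmp.imageSieve_mem_of_exact (Δ.exact₃ _ hS 0 1 rfl) V (n • yV) hker
    obtain ⟨W, g', w, ⟨t, ht⟩, hw⟩ := EtPtsLib.exists_mem_of_covering hmem v
    haveI : PreservesLimitsOfSize.{0, 0} (EtCoh.push f) := (EtCoh.pullPushAdj f).rightAdjoint_preservesLimits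
    haveI : PreservesFiniteLimits (EtCoh.push f) := PreservesLimitsOfSize.preservesFiniteLimits _
    let e : R₀ ≅ EtCoh.push f := Functor.rightDerivedZeroIsoSelf (EtCoh.push f)
    obtain ⟨t', ht'⟩ := FLCLib.exists_nsmul_eq_sect (I := I) hn ((EtCoh.bc f).obj W) ((e.hom.app I).hom.app (op W) t)
    let t'' : (R₀.obj I).obj.obj (op W) := (e.inv.app I).hom.app (op W) t'
    have ht'' : n • t'' = t := by
      rw [← map_nsmul]
      refine (congrArg _ ht').trans ?_
      exact ConcreteCategory.congr_hom (congrArg (fun a : R₀.obj I ⟶ R₀.obj I => a.hom.app (op W))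
        (e.hom_inv_id_app I)) t
    have hdiv : (R₀.map (torsSeq I).g).hom.app (op W) t'' = (R₀.obj (torsSeq I).X₃).obj.map g'.op yV := by
      haveI := isIso_nsmul_map I (Y := Y) R₀ hn
      haveI : IsIso ((n • 𝟙 (R₀.obj (torsSeq I).X₃)).hom) :=
        inferInstanceAs (IsIso ((sheafToPresheaf _ _).map (n • 𝟙 (R₀.obj (torsSeq I).X₃))))
      refine (ConcreteCategory.bijective_of_isIso ((n • 𝟙 (R₀.obj (torsSeq I).X₃)).hom.app (op W))).1 ?_
      rw [nsmul_id_app, nsmul_id_app, ← map_nsmul, ht'', ← map_nsmul]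
      exact ht
    refine ⟨W, g' ≫ g, ⟨w, ?_⟩, ?_⟩
    · show (g'.left ≫ g.left) w = x
      rw [Scheme.Hom.comp_apply]
      exact (congrArg g.left hw).trans hv
    · rw [op_comp, Functor.map_comp, ConcreteCategory.comp_apply]
      show ((EtCoh.Rpush f 1).obj (torsPart I)).obj.map g'.op
        (((EtCoh.Rpush f 1).obj (torsPart I)).obj.map g.op ((Δ.δ _ hS 0 1 rfl).hom.app (op U) y)) = 0
      rw [← NatTrans.naturality_apply, ← NatTrans.naturality_apply, ← hdiv]
      exact ConcreteCategory.congr_hom (congrArg (fun a : R₀.obj I ⟶ (EtCoh.Rpush f 1).obj (torsPart I) =>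
        a.hom.app (op W)) (Δ.comp_δ _ hS 0 1 rfl)) t''
  · haveI : Mono (Δ.δ _ hS (q + 1) (q + 2) rfl) :=
      (Δ.exact₃ _ hS (q + 1) (q + 2) rfl).mono_g ((hI q).eq_of_src _ _)
    haveI : IsIso (Δ.δ _ hS (q + 1) (q + 2) rfl) := isIso_of_mono_of_epi _
    refine IsZero.of_iso (isZero_of_torsion_of_isIso ?_ fun n hn => isIso_nsmul_map I _ hn)
      (asIso (Δ.δ _ hS (q + 1) (q + 2) rfl)).symm
    exact isTorsion_of_iso (asIso (Δ.δ _ hS (q + 1) (q + 2) rfl)).symm htors

/-- Torsion sheaves with vanishing higher direct images along all qcqs morphisms. -/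
structure PushAcyc {X : Scheme.{u}} (J : EtCoh.Ab X) : Prop where
  isTorsion : EtCoh.IsTorsion J
  isZero : ∀ {Y : Scheme.{u}} (f : X ⟶ Y) [QuasiCompact f] [QuasiSeparated f] (q : ℕ),
    IsZero ((EtCoh.Rpush f (q + 1)).obj J)

omit I in
/-- Every torsion sheaf embeds into one acyclic for direct images. -/
theorem exists_pushAcyc {F : EtCoh.Ab X} (hF : EtCoh.IsTorsion F) :
    ∃ (J : EtCoh.Ab X) (a : F ⟶ J), Mono a ∧ PushAcyc J := by
  obtain ⟨b, hb⟩ := exists_fac_torsPart (Injective.under F) hF (Injective.ι F)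
  exact ⟨_, b, mono_of_mono_fac hb, isTorsion_torsPart _, fun f => isZero_Rpush_torsPart _ f⟩

end Groth.Agent.PBCCons
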