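import Groth.Agent.RDerLib.Horseshoe

/-!
# Dimension shifting with right derived functors
-/

set_option autoImplicit false
set_option backward.isDefEq.respectTransparency false
set_option linter.style.haveILetI false

universe v u v' u'

open CategoryTheory CategoryTheory.Limits

noncomputable section

namespace Groth.Agent.PBCCons

variable {C : Type u} [Category.{v} C] [Abelian C] [EnoughInjectives C] {D : Type u'} [Category.{v'} D] [Abelian D]
  (F : C ⥤ D) [F.Additive] {S : ShortComplex C} (hS : S.ShortExact)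

include hS

/-- Dimension shifting. -/
theorem nonempty_rightDerived_iso_succ (h : ∀ k, IsZero ((F.rightDerived (k + 1)).obj S.X₂)) (n : ℕ) :
    Nonempty ((F.rightDerived (n + 1 + 1)).obj S.X₁ ≅ (F.rightDerived (n + 1)).obj S.X₃) := by
  obtain ⟨Δ⟩ := RDerLib.nonempty_derivedLES F
  haveI := (Δ.exact₃ _ hS (n + 1) (n + 1 + 1) rfl).mono_g ((h n).eq_of_src _ _)
  haveI := (Δ.exact₁ _ hS (n + 1) (n + 1 + 1) rfl).epi_f ((h (n + 1)).eq_of_tgt _ _)
  haveI := isIso_of_mono_of_epi (Δ.δ _ hS (n + 1) (n + 1 + 1) rfl)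
  exact ⟨(asIso (Δ.δ _ hS (n + 1) (n + 1 + 1) rfl)).symm⟩

/-- The first derived functor as a cokernel. -/
theorem nonempty_rightDerived_one_iso [PreservesFiniteLimits F] (h : IsZero ((F.rightDerived 1).obj S.X₂)) :
    Nonempty ((F.rightDerived 1).obj S.X₁ ≅ cokernel (F.map S.g)) := by
  obtain ⟨Δ⟩ := RDerLib.nonempty_derivedLES F
  haveI := (Δ.exact₁ _ hS 0 1 rfl).epi_f (h.eq_of_tgt _ _)
  let e := F.rightDerivedZeroIsoSelf
  exact ⟨((Δ.exact₃ _ hS 0 1 rfl).gIsCokernel.coconePointUniqueUpToIso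
      (cokernelIsCokernel ((F.rightDerived 0).map S.g))) ≪≫
    cokernel.mapIso _ _ (e.app S.X₂) (e.app S.X₃) (e.hom.naturality S.g)⟩

/-- Injectivity in positive degrees. -/
theorem mono_rightDerived_map (n : ℕ) (h : IsZero ((F.rightDerived n).obj S.X₃)) :
    Mono ((F.rightDerived (n + 1)).map S.f) := by
  obtain ⟨Δ⟩ := RDerLib.nonempty_derivedLES F
  exact (Δ.exact₁ _ hS n (n + 1) rfl).mono_g (h.eq_of_src _ _)

/-- Injectivity in degree one. -/
theorem mono_rightDerived_map_one [PreservesFiniteLimits F] [Epi (F.map S.g)] :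
    Mono ((F.rightDerived 1).map S.f) := by
  obtain ⟨Δ⟩ := RDerLib.nonempty_derivedLES F
  let e := F.rightDerivedZeroIsoSelf
  haveI : Epi ((F.rightDerived 0).map S.g) := by
    rw [show (F.rightDerived 0).map S.g = e.hom.app _ ≫ F.map S.g ≫ e.inv.app _ by
      rw [← Category.assoc, ← e.hom.naturality, Category.assoc, e.hom_inv_id_app, Category.comp_id]]
    infer_instance
  have h0 : Δ.δ _ hS 0 1 rfl = 0 := by rw [← cancel_epi ((F.rightDerived 0).map S.g), Δ.comp_δ, comp_zero]
  exact (Δ.exact₁ _ hS 0 1 rfl).mono_g h0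

end Groth.Agent.PBCCons
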