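import Groth.Agent.PBCCons.Cmp
import Groth.Agent.FppfCmp.AcycExt
import Groth.Agent.FppfCmp.Apply
import Groth.Prelude.Def_EtCore

/-!
# Consequences of the vanishing of higher direct images to the big étale site
-/

set_option autoImplicit false
set_option backward.isDefEq.respectTransparency false
set_option backward.isDefEq.respectTransparency.types false
set_option linter.style.haveILetI false
set_option linter.unusedSectionVars false
set_option maxHeartbeats 1600000

universe u

open CategoryTheory CategoryTheory.Limits AlgebraicGeometry Opposite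

noncomputable section

namespace Groth.Agent.PBCCons

open Groth.Agent.BigSiteLib

local notation "Ke" => Scheme.etalePrecoverage

theorem acyc_fppf (m : ℕ) : AcycUpTo Scheme.fppfPrecoverage.{u} m := by
  intro S _ F _ q _
  let α : (piK Scheme.fppfPrecoverage S).obj F ≅ piFppf F :=
    (Functor.FullyFaithful.ofFullyFaithful (eps Scheme.fppfPrecoverage S)).preimageIso
      ((epsPiIso Scheme.fppfPrecoverage fine_fppf S).app F ≪≫
        (show (BigSite.piEtPull Ke S).obj F ≅ (eps Scheme.fppfPrecoverage S).obj (piFppf F) from Iso.refl _))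
  let I := InjectiveResolution.of (piFppf F)
  refine IsZero.of_iso ?_ (((eps Scheme.fppfPrecoverage S).rightDerived (q + 1)).mapIso α)
  exact (isZero_iff_etExactAt I q).2 fun U c hc => FppfCmp.imageSieve_mem_Je F I q U c hc

variable {K : Precoverage Scheme.{u}} (hK : Fine K) (hac : ∀ m, AcycUpTo K m)

include hK hac

section Single

variable (S : Scheme.{u}) [BigSite.EpsCont Ke K S] {F : EtCoh.Ab S}

theorem isZero_rightDerived_eps (hF : EtCoh.IsTorsion F) (q : ℕ) :
    IsZero (((eps K S).rightDerived (q + 1)).obj ((piK K S).obj F)) :=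
  hac (q + 1) S F hF q (Nat.lt_succ_self q)

variable [BigSite.AEtCont K S]

omit hK hac in
/-- Restriction to the small étale site passes through the big étale site. -/
def resEtEpsIso : eps K S ⋙ BigSite.resEt Ke S ≅ BigSite.resEt K S :=
  NatIso.ofComponents (fun _ => Iso.refl _)

omit hK hac in
/-- The composite adjunction. -/
def piKAdj : piK K S ⊣ BigSite.resEt K S :=
  ((BigSite.piEtAdj Ke S).comp (epsLAdj K S)).ofNatIsoRight (resEtEpsIso S)

omit hK hac in
/-- `π⁻¹` to the finer site. -/
def piEtPullIso : BigSite.piEtPull K S ≅ piK K S :=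
  (BigSite.piEtAdj K S).leftAdjointUniq (piKAdj S)

omit hac in
theorem isIso_piKAdj_unit (G : EtCoh.Ab S) : IsIso ((piKAdj (K := K) S).unit.app G) := by
  haveI := isIso_piEtAdj_unit (S := S) G
  let P : BigSite.Ab K S := ⟨(piSheaf G).obj, hK.isSheaf G⟩
  haveI : IsIso ((epsLAdj K S).unit.app ((BigSite.piEtPull Ke S).obj G)) :=
    (epsLAdj K S).isIso_unit_app_of_iso (show (BigSite.piEtPull Ke S).obj G ≅ (eps K S).obj P from Iso.refl _)
  simp only [piKAdj, Adjunction.ofNatIsoRight, Adjunction.comp_unit_app, Adjunction.mkOfHomEquiv_unit_app]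
  dsimp
  simp only [Adjunction.comp_unit_app, Category.assoc]
  infer_instance

omit hac in
theorem isIso_piEtAdj_unit' (G : EtCoh.Ab S) : IsIso ((BigSite.piEtAdj K S).unit.app G) := by
  haveI := isIso_piKAdj_unit hK S G
  have h := Adjunction.unit_leftAdjointUniq_hom_app (BigSite.piEtAdj K S) (piKAdj S) G
  haveI : IsIso ((BigSite.piEtAdj K S).unit.app G ≫
      (BigSite.resEt K S).map ((piEtPullIso (K := K) S).hom.app G)) := by
    rw [show (piEtPullIso (K := K) S).hom.app G =
      (Adjunction.leftAdjointUniq (BigSite.piEtAdj K S) (piKAdj S)).hom.app G from rfl, h]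
    infer_instance
  exact IsIso.of_isIso_comp_right _ ((BigSite.resEt K S).map ((piEtPullIso (K := K) S).hom.app G))

theorem exactAt_resEt (hF : EtCoh.IsTorsion F) (I : InjectiveResolution ((piK K S).obj F)) (n : ℕ) :
    (((BigSite.resEt K S).mapHomologicalComplex (ComplexShape.up ℕ)).obj I.cocomplex).ExactAt (n + 1) := by
  haveI := preservesFiniteColimits_resEt Ke S
  haveI := preservesFiniteLimits_resEt (X := S) Ke
  rw [HomologicalComplex.exactAt_iff' _ n (n + 1) (n + 2) (by simp) (by simp)]
  have h := (exactAtS_eps_of_etExactAt ((isZero_iff_etExactAt I n).1 (isZero_rightDerived_eps hK hac S hF n))).map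
    (BigSite.resEt Ke S)
  exact ShortComplex.exact_of_iso (ShortComplex.isoMk ((resEtEpsIso S).app _) ((resEtEpsIso S).app _)
    ((resEtEpsIso S).app _) ((resEtEpsIso (K := K) S).hom.naturality _).symm
    ((resEtEpsIso (K := K) S).hom.naturality _).symm) h

theorem isZero_RresEt (hF : EtCoh.IsTorsion F) (q : ℕ) :
    IsZero ((BigSite.RresEt K S (q + 1)).obj ((BigSite.piEtPull K S).obj F)) := by
  refine IsZero.of_iso ?_ ((BigSite.RresEt K S (q + 1)).mapIso ((piEtPullIso S).app F))
  let I := InjectiveResolution.of ((piK K S).obj F)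
  refine IsZero.of_iso ?_ (I.isoRightDerivedObj (BigSite.resEt K S) (q + 1))
  change IsZero (HomologicalComplex.homology _ (q + 1))
  rw [← HomologicalComplex.exactAt_iff_isZero_homology]
  exact exactAt_resEt hK hac S hF I q

theorem nonempty_H_equiv (hF : EtCoh.IsTorsion F) (q : ℕ) :
    Nonempty (EtCoh.H S F q ≃+ BigSite.H K S ((BigSite.piEtPull K S).obj F) q) := by
  haveI : (piK K S).PreservesMonomorphisms := inferInstance
  haveI : PreservesFiniteLimits (EtFppf.a S) := inferInstanceAs (PreservesFiniteLimits (Scheme.Etale.forget S))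
  haveI := isIso_piKAdj_unit hK S F
  let α := (piEtPullIso (K := K) S).app F
  let I := InjectiveResolution.of ((piK K S).obj F)
  let T' : IsTerminal (Over.mk (𝟙 S) : Over S) := Over.mkIdTerminal
  let i : BigSite.resEt K S ⋙ (sheafSections S.smallEtaleTopology AddCommGrpCat.{u + 1}).obj (op (EtCoh.top S)) ≅
      (sheafSections (QuotSh.J K S) AddCommGrpCat.{u + 1}).obj (op (Over.mk (𝟙 S))) :=
    NatIso.ofComponents (fun G => G.obj.mapIso (IsTerminal.uniqueUpToIso
      (IsTerminal.isTerminalObj (EtFppf.a S) _ (EtCore.topIsTerminal S)) T').symm.op) (fun φ => (φ.hom.naturality _).symm)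
  let c := Adjunction.leftAdjointUniq
    (((constantSheafAdj S.smallEtaleTopology AddCommGrpCat.{u + 1} (EtCore.topIsTerminal S)).comp (piKAdj S)).ofNatIsoRight i)
    (constantSheafAdj (QuotSh.J K S) AddCommGrpCat.{u + 1} T')
  obtain ⟨e⟩ := Groth.Agent.FppfCmp.nonempty_ext_equiv_of_resolution (piKAdj S) I
    (exactAt_resEt hK hac S hF I) (c.app (AddCommGrpCat.of (ULift ℤ))) q
  exact ⟨(((Abelian.extFunctorObj _ q).mapIso (asIso ((piKAdj (K := K) S).unit.app F))).addCommGroupIsoToAddEquiv).trans
    (e.trans ((Abelian.extFunctorObj _ q).mapIso α.symm).addCommGroupIsoToAddEquiv)⟩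

end Single

/-- Higher direct images on the finer big sites under proper base change. -/
theorem nonempty_piEtPull_Rpush_iso_fine (hPBC : PBC.{u}) {X Y : Scheme.{u}} (f : X ⟶ Y) [IsProper f]
    [BigSite.AEtCont K X] [BigSite.AEtCont K Y] (F : EtCoh.Ab X) (hF : EtCoh.IsTorsion F) (i : ℕ) :
    Nonempty ((BigSite.piEtPull K Y).obj ((EtCoh.Rpush f i).obj F) ≅
      (BigSite.RpushBig K f i).obj ((BigSite.piEtPull K X).obj F)) := by
  haveI := hK.epsCont X
  haveI := hK.epsCont Y
  let I := InjectiveResolution.of ((piK K X).obj F)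
  obtain ⟨J, hJ⟩ := FppfCmp.exists_resolution (epsLAdj K X) I fun n => by
    rw [HomologicalComplex.exactAt_iff' _ n (n + 1) (n + 2) (by simp) (by simp)]
    exact exactAtS_eps_of_etExactAt ((isZero_iff_etExactAt I n).1 (isZero_rightDerived_eps hK hac X hF n))
  obtain ⟨e⟩ := nonempty_piEtPull_Rpush_iso hPBC f i F hF
  obtain ⟨Jc, hinj, Jι, hq⟩ := J
  obtain rfl : Jc = ((eps K X).mapHomologicalComplex (ComplexShape.up ℕ)).obj I.cocomplex := hJ
  let J' : InjectiveResolution ((eps K X).obj ((piK K X).obj F)) := ⟨_, hinj, Jι, hq⟩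
  let P := BigSite.pushBig K f AddCommGrpCat.{u + 1}
  let Pe := BigSite.pushBig Ke f AddCommGrpCat.{u + 1}
  let D := (P.mapHomologicalComplex (ComplexShape.up ℕ)).obj I.cocomplex
  let De := (Pe.mapHomologicalComplex (ComplexShape.up ℕ)).obj J'.cocomplex
  let c : ((epsL K Y).mapHomologicalComplex (ComplexShape.up ℕ)).obj De ≅ D :=
    HomologicalComplex.Hom.isoOfComponents
      (fun n => (epsL K Y).mapIso ((epsPushIso (S := Y) K f).symm.app (I.cocomplex.X n)) ≪≫
        (asIso (epsLAdj K Y).counit).app (P.obj (I.cocomplex.X n)))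
      fun a b _ => by
        refine (Category.assoc _ _ _).trans ?_
        refine Eq.trans (congrArg _ ((epsLAdj K Y).counit.naturality (P.map (I.cocomplex.d a b))).symm) ?_
        refine (Category.assoc _ _ _).symm.trans (Eq.trans ?_ (Category.assoc _ _ _))
        refine congrArg (· ≫ _) (((epsL K Y).map_comp _ _).symm.trans (Eq.trans (congrArg (epsL K Y).map ?_)
          ((epsL K Y).map_comp _ _)))
        exact ((epsPushIso (S := Y) K f).inv.naturality (I.cocomplex.d a b)).symm
  exact ⟨(piEtPullIso Y).app _ ≪≫ (epsL K Y).mapIso (e ≪≫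
      (BigSite.RpushBig Ke f i).mapIso ((epsPiIso K hK X).app F).symm ≪≫ J'.isoRightDerivedObj Pe i) ≪≫
    (((De.sc i).mapHomologyIso (epsL K Y)).symm ≪≫
      (HomologicalComplex.homologyFunctor _ _ i).mapIso c) ≪≫
    (I.isoRightDerivedObj P i).symm ≪≫ (BigSite.RpushBig K f i).mapIso ((piEtPullIso X).app F).symm⟩

end Groth.Agent.PBCCons
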