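import Groth.Agent.PBCCons.Torsion
import Groth.Agent.PBCCons.DerTools
import Groth.Agent.PBCLib.Defs
import Groth.Agent.BigSiteLib.Counit
import Groth.Agent.S0157

/-!
# Higher direct images on big étale sites under proper base change
-/

set_option autoImplicit false
set_option backward.isDefEq.respectTransparency false
set_option backward.isDefEq.respectTransparency.types false
set_option linter.style.haveILetI false
set_option maxHeartbeats 800000

universe u

open CategoryTheory CategoryTheory.Limits AlgebraicGeometry Opposite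

noncomputable section

namespace Groth.Agent.PBCCons

open Groth.Agent.BigSiteLib

local notation "Ke" => Scheme.etalePrecoverage

/-- Proper base change for torsion sheaves. -/
def PBC : Prop := ∀ {X S : Scheme.{u}} (f : X ⟶ S), IsProper f → PBCLib.BCAll f

variable {X Y : Scheme.{u}}

instance additive_piEtPull (S : Scheme.{u}) : (BigSite.piEtPull Ke S).Additive :=
  (BigSite.piEtAdj Ke S).left_adjoint_additive

instance preservesFiniteLimits_piEt (S : Scheme.{u}) : PreservesFiniteLimits (BigSite.piEtPull Ke S) :=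
  BigSiteLib.preservesFiniteLimits_piEtPull Ke S

instance preservesFiniteColimits_piEt (S : Scheme.{u}) : PreservesFiniteColimits (BigSite.piEtPull Ke S) :=
  haveI : PreservesColimitsOfSize.{0, 0} (BigSite.piEtPull Ke S) := (BigSite.piEtAdj Ke S).leftAdjoint_preservesColimits
  PreservesColimitsOfSize.preservesFiniteColimits _

theorem preservesFiniteLimits_push (f : X ⟶ Y) : PreservesFiniteLimits (EtCoh.push f) :=
  haveI : PreservesLimitsOfSize.{0, 0} (EtCoh.push f) := (EtCoh.pullPushAdj f).rightAdjoint_preservesLimits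
  PreservesLimitsOfSize.preservesFiniteLimits _

theorem preservesFiniteLimits_pushBig (K : Precoverage Scheme.{u}) (f : X ⟶ Y) :
    PreservesFiniteLimits (BigSite.pushBig K f AddCommGrpCat.{u + 1}) :=
  haveI : PreservesLimitsOfSize.{0, 0} (BigSite.pushBig K f AddCommGrpCat.{u + 1}) :=
    (BigSite.bigAdj K f AddCommGrpCat.{u + 1}).rightAdjoint_preservesLimits
  PreservesLimitsOfSize.preservesFiniteLimits _

theorem isTorsion_cokernel {A B : EtCoh.Ab X} (a : A ⟶ B) (hB : EtCoh.IsTorsion B) :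
    EtCoh.IsTorsion (cokernel a) :=
  isTorsion_of_epi (cokernel.π a) hB

theorem isZero_Rpush_pull (hPBC : PBC.{u}) (f : X ⟶ Y) [IsProper f] {X' Y' : Scheme.{u}} {g' : X' ⟶ X}
    {f' : X' ⟶ Y'} {g : Y' ⟶ Y} (c : IsPullback g' f' f g) {J : EtCoh.Ab X} (hJ : PushAcyc J) (q : ℕ) :
    IsZero ((EtCoh.Rpush f' (q + 1)).obj ((EtCoh.pull g').obj J)) := by
  haveI := hPBC f ‹_› g f' g' c J hJ.isTorsion (q + 1)
  exact IsZero.of_iso ((EtCoh.pull g).map_isZero (hJ.isZero f q)) (asIso (EtBC.bcQ f g f' g' c.w (q + 1) J)).symm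

theorem isZero_of_resEtAlong {G : BigSite.Ab Ke Y}
    (h : ∀ X : Over Y, IsZero ((BigSite.resEtAlong Ke X.hom).obj G)) : IsZero G := by
  haveI := BigSiteLib.isIso_of_resEtAlong (0 : G ⟶ G) fun X =>
    ⟨⟨0, (h X).eq_of_src _ _, (h X).eq_of_src _ _⟩⟩
  exact IsZero.of_mono_zero G G

theorem isZero_RpushBig_pi (hPBC : PBC.{u}) (f : X ⟶ Y) [IsProper f] {J : EtCoh.Ab X} (hJ : PushAcyc J) (q : ℕ) :
    IsZero ((BigSite.RpushBig Ke f (q + 1)).obj ((BigSite.piEtPull Ke X).obj J)) := by
  refine isZero_of_resEtAlong fun T => ?_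
  have c : IsPullback (pullback.fst f T.hom) (pullback.snd f T.hom) f T.hom := IsPullback.of_hasPullback f T.hom
  exact IsZero.of_iso (isZero_Rpush_pull hPBC f c hJ q)
    ((BigSite.resEt Ke T.left).mapIso
        ((rPushPullIso Ke c (q + 1)).app ((BigSite.piEtPull Ke X).obj J)) ≪≫
      (rPushResIso (pullback.snd f T.hom) Ke (q + 1)).app _ ≪≫
      (EtCoh.Rpush (pullback.snd f T.hom) (q + 1)).mapIso ((resAlongPullIso (pullback.fst f T.hom)).app J))

/-- The comparison `π⁻¹ f_* ⟶ f_big,* π⁻¹`. -/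
def piPushNat (f : X ⟶ Y) :
    EtCoh.push f ⋙ BigSite.piEtPull Ke Y ⟶
      BigSite.piEtPull Ke X ⋙ BigSite.pushBig Ke f AddCommGrpCat.{u + 1} where
  app F := (BigSite.piEtPull Ke Y).map ((EtCoh.push f).map ((BigSite.piEtAdj Ke X).unit.app F) ≫
      (pushResIso f Ke).inv.app ((BigSite.piEtPull Ke X).obj F)) ≫
    (BigSite.piEtAdj Ke Y).counit.app _
  naturality {F G} a := by
    let RS := BigSite.resEt Ke Y
    let φ := (BigSite.pushBig Ke f AddCommGrpCat.{u + 1}).map ((BigSite.piEtPull Ke X).map a)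
    have h : (EtCoh.push f).map a ≫ ((EtCoh.push f).map ((BigSite.piEtAdj Ke X).unit.app G) ≫
        (pushResIso f Ke).inv.app ((BigSite.piEtPull Ke X).obj G)) =
        ((EtCoh.push f).map ((BigSite.piEtAdj Ke X).unit.app F) ≫
          (pushResIso f Ke).inv.app ((BigSite.piEtPull Ke X).obj F)) ≫ RS.map φ := by
      rw [← Category.assoc, ← Functor.map_comp,
        show a ≫ (BigSite.piEtAdj Ke X).unit.app G = (BigSite.piEtAdj Ke X).unit.app F ≫
          (BigSite.resEt Ke X).map ((BigSite.piEtPull Ke X).map a) from (BigSite.piEtAdj Ke X).unit.naturality a,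
        Functor.map_comp, Category.assoc, Category.assoc]
      exact congrArg _ ((pushResIso f Ke).inv.naturality _)
    have h' := congrArg (BigSite.piEtPull Ke Y).map h
    simp only [Functor.map_comp] at h' ⊢
    refine Eq.trans ?_ ((Category.assoc _ _ _).trans (congrArg (_ ≫ ·) ((BigSite.piEtAdj Ke Y).counit.naturality φ)) |>.trans
      (Category.assoc _ _ _).symm)
    refine (Category.assoc _ _ _).symm.trans ?_
    exact congrArg (· ≫ _) h'

theorem isIso_piPushNat (f : X ⟶ Y) [IsProper f] (F : EtCoh.Ab X) : IsIso ((piPushNat f).app F) := by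
  haveI := isIso_piEtAdj_unit (S := X) F
  haveI := isIso_counit_pushBig f (fun g g' f' c F' => S0157.result f f' g' g c F') F
  dsimp only [piPushNat]
  infer_instance

/-- Proper base change from the small to the big étale site. -/
theorem nonempty_piEtPull_Rpush_iso (hPBC : PBC.{u}) (f : X ⟶ Y) [IsProper f] :
    ∀ (q : ℕ) (F : EtCoh.Ab X), EtCoh.IsTorsion F →
      Nonempty ((BigSite.piEtPull Ke Y).obj ((EtCoh.Rpush f q).obj F) ≅
        (BigSite.RpushBig Ke f q).obj ((BigSite.piEtPull Ke X).obj F))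
  | 0, F, _ => by
    haveI := preservesFiniteLimits_push f
    haveI := preservesFiniteLimits_pushBig Ke f
    haveI := isIso_piPushNat f F
    exact ⟨(BigSite.piEtPull Ke Y).mapIso ((EtCoh.push f).rightDerivedZeroIsoSelf.app F) ≪≫
      asIso ((piPushNat f).app F) ≪≫
      ((BigSite.pushBig Ke f AddCommGrpCat.{u + 1}).rightDerivedZeroIsoSelf.app _).symm⟩
  | 1, F, hF => by
    haveI := preservesFiniteLimits_push f
    haveI := preservesFiniteLimits_pushBig Ke f
    obtain ⟨J, a, ha, hJ⟩ := exists_pushAcyc hF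
    have hS : (ShortComplex.mk a (cokernel.π a) (cokernel.condition a)).ShortExact :=
      { exact := ShortComplex.exact_cokernel _ }
    obtain ⟨e₁⟩ := nonempty_rightDerived_one_iso (EtCoh.push f) hS (hJ.isZero f 0)
    obtain ⟨e₂⟩ := nonempty_rightDerived_one_iso (BigSite.pushBig Ke f AddCommGrpCat.{u + 1})
      (hS.map_of_exact (BigSite.piEtPull Ke X)) (isZero_RpushBig_pi hPBC f hJ 0)
    haveI := isIso_piPushNat f J
    haveI := isIso_piPushNat f (cokernel a)
    exact ⟨(BigSite.piEtPull Ke Y).mapIso e₁ ≪≫ PreservesCokernel.iso (BigSite.piEtPull Ke Y) _ ≪≫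
      cokernel.mapIso _ _ (asIso ((piPushNat f).app J)) (asIso ((piPushNat f).app (cokernel a)))
        ((piPushNat f).naturality (cokernel.π a)) ≪≫ e₂.symm⟩
  | q + 2, F, hF => by
    obtain ⟨J, a, ha, hJ⟩ := exists_pushAcyc hF
    have hS : (ShortComplex.mk a (cokernel.π a) (cokernel.condition a)).ShortExact :=
      { exact := ShortComplex.exact_cokernel _ }
    obtain ⟨e₁⟩ := nonempty_rightDerived_iso_succ (EtCoh.push f) hS (hJ.isZero f) q
    obtain ⟨e₂⟩ := nonempty_rightDerived_iso_succ (BigSite.pushBig Ke f AddCommGrpCat.{u + 1})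
      (hS.map_of_exact (BigSite.piEtPull Ke X)) (isZero_RpushBig_pi hPBC f hJ) q
    obtain ⟨e⟩ := nonempty_piEtPull_Rpush_iso hPBC f (q + 1) (cokernel a) (isTorsion_cokernel a hJ.isTorsion)
    exact ⟨(BigSite.piEtPull Ke Y).mapIso e₁ ≪≫ e ≪≫ e₂.symm⟩

end Groth.Agent.PBCCons
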