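import Groth.Agent.FppfCmp.Exact
import Mathlib.CategoryTheory.Abelian.Injective.Resolution

/-!
# Partial inverses of maps of injective complexes, and cocycles in complexes of sheaves

A map between complexes of injectives which are exact in degrees `1, …, m` and have isomorphic kernels in degree
zero is invertible up to homotopy through degree `m + 1`.
-/

set_option autoImplicit false
set_option backward.isDefEq.respectTransparency false
set_option linter.style.haveILetI false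
set_option maxHeartbeats 800000

universe v u u'

open CategoryTheory CategoryTheory.Limits Opposite

noncomputable section

namespace Groth.Agent.PBCCons

section Abelian

variable {C : Type u} [Category.{v} C] [Abelian C] {K L : CochainComplex C ℕ} (ψ : K ⟶ L)

/-- Exactness in degree `k + 1`. -/
abbrev ExactAtS (K : CochainComplex C ℕ) (k : ℕ) : Prop :=
  (ShortComplex.mk (K.d k (k + 1)) (K.d (k + 1) (k + 2)) (K.d_comp_d _ _ _)).Exact

/-- The induction statement. -/
def PartInv (k : ℕ) : Prop :=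
  ∃ (a : L.X k ⟶ K.X k) (b : L.X (k + 1) ⟶ K.X (k + 1)) (s : K.X (k + 1) ⟶ K.X k) (t : L.X (k + 1) ⟶ L.X k),
    L.d k (k + 1) ≫ b = a ≫ K.d k (k + 1) ∧
    K.d k (k + 1) ≫ (ψ.f (k + 1) ≫ b - 𝟙 _ - s ≫ K.d k (k + 1)) = 0 ∧
    L.d k (k + 1) ≫ (b ≫ ψ.f (k + 1) - 𝟙 _ - t ≫ L.d k (k + 1)) = 0

variable [∀ n, Injective (K.X n)] [∀ n, Injective (L.X n)]

theorem partInv_zero {A A' : C} (ηK : A ⟶ K.X 0) (ηL : A' ⟶ L.X 0) (wK : ηK ≫ K.d 0 1 = 0)
    (wL : ηL ≫ L.d 0 1 = 0) [Mono ηL] (hK : (ShortComplex.mk ηK _ wK).Exact)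
    (hL : (ShortComplex.mk ηL _ wL).Exact) (e : A ≅ A') (he : ηK ≫ ψ.f 0 = e.hom ≫ ηL) : PartInv ψ 0 := by
  let a := Injective.factorThru (e.inv ≫ ηK) ηL
  have ha : ηL ≫ a = e.inv ≫ ηK := Injective.comp_factorThru _ _
  have hb₀ : ηL ≫ a ≫ K.d 0 1 = 0 := by
    rw [← Category.assoc, ha, Category.assoc, wK, comp_zero]
  let b := hL.descToInjective (a ≫ K.d 0 1) hb₀
  have hb : L.d 0 1 ≫ b = a ≫ K.d 0 1 := hL.comp_descToInjective _ hb₀
  have hs₀ : ηK ≫ (ψ.f 0 ≫ a - 𝟙 _) = 0 := by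
    rw [Preadditive.comp_sub, ← Category.assoc, he, Category.assoc, ha, e.hom_inv_id_assoc, Category.comp_id,
      sub_self]
  let s := hK.descToInjective (ψ.f 0 ≫ a - 𝟙 _) hs₀
  have hs : K.d 0 1 ≫ s = ψ.f 0 ≫ a - 𝟙 _ := hK.comp_descToInjective _ hs₀
  have ht₀ : ηL ≫ (a ≫ ψ.f 0 - 𝟙 _) = 0 := by
    rw [Preadditive.comp_sub, ← Category.assoc, ha, Category.assoc, he, e.inv_hom_id_assoc, Category.comp_id,
      sub_self]
  let t := hL.descToInjective (a ≫ ψ.f 0 - 𝟙 _) ht₀
  have ht : L.d 0 1 ≫ t = a ≫ ψ.f 0 - 𝟙 _ := hL.comp_descToInjective _ ht₀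
  refine ⟨a, b, s, t, hb, ?_, ?_⟩
  · rw [Preadditive.comp_sub, Preadditive.comp_sub, ← Category.assoc (K.d 0 1) s, hs, ← Category.assoc,
      ← ψ.comm, Category.assoc, hb, Preadditive.sub_comp, Category.comp_id, Category.id_comp, Category.assoc]
    abel
  · rw [Preadditive.comp_sub, Preadditive.comp_sub, ← Category.assoc (L.d 0 1) t, ht, ← Category.assoc,
      hb, Category.assoc, ← ψ.comm, Preadditive.sub_comp, Category.comp_id, Category.id_comp, Category.assoc]
    abel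

theorem partInv_succ {k : ℕ} (hK : ExactAtS K k) (hL : ExactAtS L k) (h : PartInv ψ k) : PartInv ψ (k + 1) := by
  obtain ⟨a, b, s, t, hb, hs₀, ht₀⟩ := h
  have hb₀ : L.d k (k + 1) ≫ b ≫ K.d (k + 1) (k + 2) = 0 := by
    rw [← Category.assoc, hb, Category.assoc, K.d_comp_d, comp_zero]
  let b' := hL.descToInjective (b ≫ K.d (k + 1) (k + 2)) hb₀
  have hb' : L.d (k + 1) (k + 2) ≫ b' = b ≫ K.d (k + 1) (k + 2) := hL.comp_descToInjective _ hb₀
  let s' := hK.descToInjective _ hs₀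
  have hs' : K.d (k + 1) (k + 2) ≫ s' = ψ.f (k + 1) ≫ b - 𝟙 _ - s ≫ K.d k (k + 1) := hK.comp_descToInjective _ hs₀
  let t' := hL.descToInjective _ ht₀
  have ht' : L.d (k + 1) (k + 2) ≫ t' = b ≫ ψ.f (k + 1) - 𝟙 _ - t ≫ L.d k (k + 1) := hL.comp_descToInjective _ ht₀
  refine ⟨b, b', s', t', hb', ?_, ?_⟩
  · rw [Preadditive.comp_sub, Preadditive.comp_sub, ← Category.assoc (K.d (k + 1) (k + 2)) s', hs',
      ← Category.assoc, ← ψ.comm, Category.assoc, hb', Preadditive.sub_comp, Preadditive.sub_comp,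
      Category.comp_id, Category.id_comp, Category.assoc, Category.assoc, K.d_comp_d, comp_zero, sub_zero]
    abel
  · rw [Preadditive.comp_sub, Preadditive.comp_sub, ← Category.assoc (L.d (k + 1) (k + 2)) t', ht',
      ← Category.assoc, hb', Category.assoc, ← ψ.comm, Preadditive.sub_comp, Preadditive.sub_comp,
      Category.comp_id, Category.id_comp, Category.assoc, Category.assoc, L.d_comp_d, comp_zero, sub_zero]
    abel

/-- Partial inverse through degree `m + 1`. -/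
theorem partInv_of_exact {A A' : C} (ηK : A ⟶ K.X 0) (ηL : A' ⟶ L.X 0) (wK : ηK ≫ K.d 0 1 = 0)
    (wL : ηL ≫ L.d 0 1 = 0) [Mono ηL] (hK : (ShortComplex.mk ηK _ wK).Exact)
    (hL : (ShortComplex.mk ηL _ wL).Exact) (e : A ≅ A') (he : ηK ≫ ψ.f 0 = e.hom ≫ ηL) (m : ℕ)
    (hKs : ∀ k, k + 1 ≤ m → ExactAtS K k) (hLs : ∀ k, k + 1 ≤ m → ExactAtS L k) : PartInv ψ m := by
  induction m with
  | zero => exact partInv_zero ψ ηK ηL wK wL hK hL e he
  | succ m ih =>
    exact partInv_succ ψ (hKs m le_rfl) (hLs m le_rfl)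
      (ih (fun k hk => hKs k (hk.trans (Nat.le_succ m))) fun k hk => hLs k (hk.trans (Nat.le_succ m)))

end Abelian

section Sheaves

variable {C : Type (u' + 1)} [Category.{u'} C] {J : GrothendieckTopology C}

/-- The values of a map of sheaves. -/
abbrev appJ {P Q : Sheaf J AddCommGrpCat.{u' + 1}} (φ : P ⟶ Q) (U : C) : P.obj.obj (op U) ⟶ Q.obj.obj (op U) :=
  φ.hom.app (op U)

theorem appJ_comp {P Q R : Sheaf J AddCommGrpCat.{u' + 1}} (φ : P ⟶ Q) (φ' : Q ⟶ R) (U : C) (x : P.obj.obj (op U)) :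
    appJ (φ ≫ φ') U x = appJ φ' U (appJ φ U x) := rfl

theorem appJ_naturality {P Q : Sheaf J AddCommGrpCat.{u' + 1}} (φ : P ⟶ Q) {U W : C} (g : W ⟶ U)
    (x : P.obj.obj (op U)) : appJ φ W (P.obj.map g.op x) = Q.obj.map g.op (appJ φ U x) :=
  NatTrans.naturality_apply φ.hom g.op x

variable [HasSheafify J AddCommGrpCat.{u' + 1}]

theorem appJ_zero {P Q : Sheaf J AddCommGrpCat.{u' + 1}} (U : C) (x : P.obj.obj (op U)) :
    appJ (0 : P ⟶ Q) U x = 0 := rfl

theorem appJ_sub {P Q : Sheaf J AddCommGrpCat.{u' + 1}} (φ φ' : P ⟶ Q) (U : C) (x : P.obj.obj (op U)) :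
    appJ (φ - φ') U x = appJ φ U x - appJ φ' U x := rfl

variable {K L : CochainComplex (Sheaf J AddCommGrpCat.{u' + 1}) ℕ} (ψ : K ⟶ L)

/-- A section in degree `m + 1` is, locally for `J'`, a coboundary. -/
abbrev IsLocBdry (J' : GrothendieckTopology C) (K : CochainComplex (Sheaf J AddCommGrpCat.{u' + 1}) ℕ) (m : ℕ) (U : C)
    (c : (K.X (m + 1)).obj.obj (op U)) : Prop :=
  Presheaf.imageSieve (K.d m (m + 1)).hom (U := U) c ∈ J' U

/-- Cocycles locally coboundaries after a map are locally coboundaries. -/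
theorem isLocBdry_of_partInv {J' : GrothendieckTopology C} {m : ℕ} (h : PartInv ψ m)
    [∀ n, Injective (K.X n)] (hK : ExactAtS K m) (U : C) (c : (K.X (m + 1)).obj.obj (op U))
    (hc : appJ (K.d (m + 1) (m + 2)) U c = 0) (hψ : IsLocBdry J' L m U (appJ (ψ.f (m + 1)) U c)) :
    IsLocBdry J' K m U c := by
  obtain ⟨a, b, s, -, hb, hs, -⟩ := h
  have hs' := hK.comp_descToInjective _ hs
  refine J'.superset_covering ?_ hψ
  rintro W g ⟨y, hy⟩
  let cW := (K.X (m + 1)).obj.map g.op c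
  refine ⟨appJ a W y - appJ s W cW, ?_⟩
  show appJ (K.d m (m + 1)) W (appJ a W y - appJ s W cW) = cW
  have h1 : appJ (ψ.f (m + 1) ≫ b - 𝟙 _ - s ≫ K.d m (m + 1)) W cW = 0 := by
    rw [← hs', appJ_comp, show appJ (K.d (m + 1) (m + 2)) W cW = 0 by
      rw [appJ_naturality, hc, map_zero], map_zero]
  rw [appJ_sub, appJ_sub, appJ_comp, appJ_comp, show appJ (𝟙 (K.X (m + 1))) W cW = cW from rfl,
    show appJ (ψ.f (m + 1)) W cW = (L.X (m + 1)).obj.map g.op (appJ (ψ.f (m + 1)) U c) from appJ_naturality _ _ _,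
    ← show appJ (L.d m (m + 1)) W y = _ from hy, ← appJ_comp, hb, appJ_comp] at h1
  rw [map_sub]
  rw [sub_sub, sub_eq_zero] at h1
  rw [h1]
  abel

/-- Maps killing the image kill locally exact sections. -/
theorem appJ_eq_zero_of_isLocBdry {m : ℕ} {Q : Sheaf J AddCommGrpCat.{u' + 1}} (φ : K.X (m + 1) ⟶ Q)
    (hφ : K.d m (m + 1) ≫ φ = 0) (U : C) (x : (K.X (m + 1)).obj.obj (op U)) (hx : IsLocBdry J K m U x) :
    appJ φ U x = 0 := by
  refine ((isSheaf_iff_isSheaf_of_type _ _).1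
    ((Presheaf.isSheaf_iff_isSheaf_forget _ _ (forget AddCommGrpCat.{u' + 1})).1 Q.property) _ hx).isSeparatedFor.ext
      fun {W} g hg => ?_
  obtain ⟨y, hy⟩ := hg
  show Q.obj.map g.op (appJ φ U x) = Q.obj.map g.op 0
  rw [← appJ_naturality, map_zero, ← show appJ (K.d m (m + 1)) W y = _ from hy, ← appJ_comp, hφ, appJ_zero]

end Sheaves

end Groth.Agent.PBCCons

namespace Groth.Agent.PBCCons

section Classes

variable {C : Type (u' + 1)} [Category.{u'} C] {J : GrothendieckTopology C} [HasSheafify J AddCommGrpCat.{u' + 1}]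
  [J.HasSheafCompose (forget AddCommGrpCat.{u' + 1})] [J.WEqualsLocallyBijective AddCommGrpCat.{u' + 1}]
  {K L : CochainComplex (Sheaf J AddCommGrpCat.{u' + 1}) ℕ}

theorem exact_toCycles_homologyπ (K : CochainComplex (Sheaf J AddCommGrpCat.{u' + 1}) ℕ) (m : ℕ) :
    (ShortComplex.mk (K.toCycles m (m + 1)) (K.homologyπ (m + 1)) (K.toCycles_comp_homologyπ _ _)).Exact :=
  ShortComplex.exact_of_g_is_cokernel _ (K.homologyIsCokernel m (m + 1) (CochainComplex.prev_nat_succ m))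

/-- A cocycle is locally a coboundary iff its class is zero. -/
theorem isLocBdry_iff_homologyπ_eq_zero (m : ℕ) (U : C) (z : (K.cycles (m + 1)).obj.obj (op U)) :
    IsLocBdry J K m U (appJ (K.iCycles (m + 1)) U z) ↔ appJ (K.homologyπ (m + 1)) U z = 0 := by
  constructor
  · intro h
    refine ((isSheaf_iff_isSheaf_of_type _ _).1
      ((Presheaf.isSheaf_iff_isSheaf_forget _ _ (forget AddCommGrpCat.{u' + 1})).1 (K.homology (m + 1)).property)
        _ h).isSeparatedFor.ext fun {W} g hg => ?_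
    obtain ⟨y, hy⟩ := hg
    show (K.homology (m + 1)).obj.map g.op (appJ (K.homologyπ (m + 1)) U z) = (K.homology (m + 1)).obj.map g.op 0
    rw [← appJ_naturality, map_zero]
    have e : appJ (K.toCycles m (m + 1)) W y = (K.cycles (m + 1)).obj.map g.op z := by
      apply FppfCmp.sect_injective_of_mono (K.iCycles (m + 1)) W
      show appJ (K.iCycles (m + 1)) W _ = appJ (K.iCycles (m + 1)) W _
      rw [← appJ_comp, K.toCycles_i, appJ_naturality]
      exact hy
    rw [← e, ← appJ_comp, K.toCycles_comp_homologyπ, appJ_zero]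
  · intro h
    refine J.superset_covering ?_ (FppfCmp.imageSieve_mem_of_exact (exact_toCycles_homologyπ K m) U z h)
    rintro W g ⟨y, hy⟩
    refine ⟨y, ?_⟩
    show appJ (K.d m (m + 1)) W y = _
    rw [← K.toCycles_i, appJ_comp]
    exact (congrArg (appJ (K.iCycles (m + 1)) W) hy).trans (appJ_naturality _ _ _)

/-- Cocycles with locally bounding image are locally bounding if the map is injective on cohomology. -/
theorem isLocBdry_of_mono_homologyMap (ψ : K ⟶ L) (m : ℕ) [Mono (HomologicalComplex.homologyMap ψ (m + 1))]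
    (U : C) (c : (K.X (m + 1)).obj.obj (op U)) (hc : appJ (K.d (m + 1) (m + 2)) U c = 0)
    (hψ : IsLocBdry J L m U (appJ (ψ.f (m + 1)) U c)) : IsLocBdry J K m U c := by
  obtain ⟨z, rfl⟩ := FppfCmp.exists_of_exact_mono
    (S := ShortComplex.mk (K.iCycles (m + 1)) (K.d (m + 1) (m + 2)) (K.iCycles_d _ _))
    (ShortComplex.exact_of_f_is_kernel _ (K.cyclesIsKernel (m + 1) (m + 2) (CochainComplex.next ℕ (m + 1)))) U c hc
  refine (isLocBdry_iff_homologyπ_eq_zero m U z).2 ?_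
  apply FppfCmp.sect_injective_of_mono (HomologicalComplex.homologyMap ψ (m + 1)) U
  show appJ (HomologicalComplex.homologyMap ψ (m + 1)) U _ = appJ (HomologicalComplex.homologyMap ψ (m + 1)) U 0
  rw [← appJ_comp, HomologicalComplex.homologyπ_naturality, appJ_comp, map_zero]
  refine (isLocBdry_iff_homologyπ_eq_zero m U _).1 ?_
  rw [← appJ_comp, HomologicalComplex.cyclesMap_i, appJ_comp]
  exact hψ

end Classes

end Groth.Agent.PBCCons
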