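import Groth.Agent.PBCCons.Eps
import Groth.Agent.PBCCons.CxTools
import Groth.Agent.SpSeqLib.AcyclicResolution

/-!
# Torsion sheaves have no higher cohomology between the big étale site and the ph site

Induction on the degree: a cocycle killed on a proper surjective scheme over the base is killed étale locally,
by proper base change for a torsion sheaf upstairs acyclic for direct images.
-/

set_option autoImplicit false
set_option backward.isDefEq.respectTransparency false
set_option backward.isDefEq.respectTransparency.types false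
set_option linter.style.haveILetI false
set_option linter.unusedSectionVars false
set_option maxHeartbeats 1600000

universe u

open CategoryTheory CategoryTheory.Limits AlgebraicGeometry Opposite

noncomputable section

namespace Groth.Agent.PBCCons

open Groth.Agent.BigSiteLib

local notation "Ke" => Scheme.etalePrecoverage

/-- Coverings are dominated affine locally by proper surjective morphisms followed by Zariski coverings. -/
def PhLike (K : Precoverage Scheme.{u}) : Prop :=
  ∀ {T : Scheme.{u}} (P : Presieve T), P ∈ K T → ∀ V : T.affineOpens,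
    ∃ (W : Scheme.{u}) (p : W ⟶ (V : T.Opens).toScheme), IsProper p ∧ Surjective p ∧
      ∀ w : W, ∃ (Z : Scheme.{u}) (j : Z ⟶ W), IsOpenImmersion j ∧ w ∈ Set.range j ∧
        (Sieve.generate P).arrows (j ≫ p ≫ (V : T.Opens).ι)

theorem phLike_ph : PhLike HTop.phPrecoverage.{u} := by
  intro T P hP V
  obtain ⟨E, rfl⟩ := Precoverage.mem_iff_exists_zeroHypercover.1 hP
  obtain ⟨-, h⟩ := (HTop.presieve₀_mem_phPrecoverage_iff E.toPreZeroHypercover).1 E.mem₀
  obtain ⟨F, hF, href⟩ := h V
  obtain ⟨U, f, ι, hf, hfs, hι, hfac, hcov⟩ := hF.exists_proper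
  refine ⟨U, f, hf, hfs, fun w => ?_⟩
  obtain ⟨j, hj⟩ := hcov w
  obtain ⟨i, l, hl⟩ := href j
  exact ⟨F.X j, ι j, hι j, hj, E.X i, l, E.f i, ⟨i⟩, hl.trans (by rw [← Category.assoc, hfac])⟩

theorem phLike_h : PhLike HTop.hPrecoverage.{u} := by
  intro T P hP V
  obtain ⟨E, rfl⟩ := Precoverage.mem_iff_exists_zeroHypercover.1 hP
  obtain ⟨hl, hV⟩ := (HTop.presieve₀_mem_hPrecoverage_iff E.toPreZeroHypercover).1 E.mem₀
  exact phLike_ph _ ((HTop.presieve₀_mem_phPrecoverage_iff E.toPreZeroHypercover).2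
    ((S8976.result E.toPreZeroHypercover hl).2 hV)) V

variable {K : Precoverage Scheme.{u}}

section Generic

variable {S T : Scheme.{u}}

/-- The values of a map of sheaves on a big site. -/
abbrev appB {P Q : BigSite.Ab K S} (φ : P ⟶ Q) (U : Over S) : P.obj.obj (op U) ⟶ Q.obj.obj (op U) :=
  φ.hom.app (op U)

/-- A section in degree `m + 1` is étale locally a coboundary. -/
abbrev EtBdry (L : CochainComplex (BigSite.Ab K S) ℕ) (m : ℕ) (U : Over S)
    (c : (L.X (m + 1)).obj.obj (op U)) : Prop :=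
  IsLocBdry (QuotSh.J Ke S) L m U c

/-- Cocycles are étale locally coboundaries. -/
def EtExactAt (L : CochainComplex (BigSite.Ab K S) ℕ) (m : ℕ) : Prop :=
  ∀ (U : Over S) (c : (L.X (m + 1)).obj.obj (op U)), appB (L.d (m + 1) (m + 2)) U c = 0 → EtBdry L m U c

theorem etBdry_map {L : CochainComplex (BigSite.Ab K S) ℕ} {m : ℕ} {U : Over S}
    {c : (L.X (m + 1)).obj.obj (op U)} (h : EtBdry L m U c) {W : Over S} (e : W ⟶ U) :
    EtBdry L m W ((L.X (m + 1)).obj.map e.op c) := by
  show Presheaf.imageSieve (L.d m (m + 1)).hom (U := W) _ ∈ _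
  rw [FppfCmp.map_mem_imageSieve]
  exact (QuotSh.J Ke S).pullback_stable e h

theorem etBdry_local {L : CochainComplex (BigSite.Ab K S) ℕ} {m : ℕ} (U : Over S)
    (c : (L.X (m + 1)).obj.obj (op U))
    (h : ∀ x : U.left, ∃ (W : Over S) (e : W ⟶ U), Etale e.left ∧ (∃ w, e.left w = x) ∧
      EtBdry L m W ((L.X (m + 1)).obj.map e.op c)) : EtBdry L m U c := by
  refine etale_sieve_mem _ fun x => ?_
  obtain ⟨W, e, he, ⟨w, hw⟩, hW⟩ := h x
  obtain ⟨W', e', he', ⟨w', hw'⟩, hR⟩ := FppfCmp.exists_etale_of_mem hW w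
  refine ⟨W', e' ≫ e, MorphismProperty.comp_mem @Etale e'.left e.left he' he, ⟨w', ?_⟩, ?_⟩
  · show (e'.left ≫ e.left) w' = x
    rw [Scheme.Hom.comp_apply, hw', hw]
  · rw [FppfCmp.map_mem_imageSieve] at hR
    exact hR

theorem etBdry_chainMap {L L' : CochainComplex (BigSite.Ab K S) ℕ} (φ : L ⟶ L') {m : ℕ} {U : Over S}
    {c : (L.X (m + 1)).obj.obj (op U)} (h : EtBdry L m U c) : EtBdry L' m U (appB (φ.f (m + 1)) U c) := by
  refine (QuotSh.J Ke S).superset_covering ?_ h
  rintro W g ⟨y, hy⟩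
  refine ⟨appB (φ.f m) W y, ?_⟩
  show appB (L'.d m (m + 1)) W (appB (φ.f m) W y) = _
  rw [← appJ_comp, φ.comm, appJ_comp]
  exact (congrArg (appB (φ.f (m + 1)) W) hy).trans (appJ_naturality _ _ _)

variable [BigSite.EpsCont Ke K S]

/-- A complex restricted to the big étale site. -/
abbrev epsCx (L : CochainComplex (BigSite.Ab K S) ℕ) : CochainComplex (BigSite.Ab Ke S) ℕ :=
  ((eps K S).mapHomologicalComplex (ComplexShape.up ℕ)).obj L

theorem exactAtS_eps_of_etExactAt {L : CochainComplex (BigSite.Ab K S) ℕ} {m : ℕ} (h : EtExactAt L m) :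
    ExactAtS (epsCx L) m :=
  FppfCmp.exact_of_imageSieve_mem (J := QuotSh.J Ke S)
    (ShortComplex.mk ((epsCx L).d m (m + 1)) ((epsCx L).d (m + 1) (m + 2)) ((epsCx L).d_comp_d _ _ _))
    fun U c hc => h U c hc

theorem etExactAt_of_exactAtS_eps {L : CochainComplex (BigSite.Ab K S) ℕ} {m : ℕ} (h : ExactAtS (epsCx L) m) :
    EtExactAt L m :=
  fun U c hc => FppfCmp.imageSieve_mem_of_exact h U c hc

theorem exactAtS_of_etExactAt {L : CochainComplex (BigSite.Ab K S) ℕ} {m : ℕ} (h : EtExactAt L m) :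
    ExactAtS L m :=
  exact_of_exact_eps K S _ (exactAtS_eps_of_etExactAt h)

theorem isZero_iff_etExactAt {A : BigSite.Ab K S} (I : InjectiveResolution A) (m : ℕ) :
    IsZero (((eps K S).rightDerived (m + 1)).obj A) ↔ EtExactAt I.cocomplex m := by
  rw [Iso.isZero_iff (I.isoRightDerivedObj (eps K S) (m + 1))]
  change IsZero ((epsCx I.cocomplex).homology (m + 1)) ↔ _
  rw [← HomologicalComplex.exactAt_iff_isZero_homology,
    HomologicalComplex.exactAt_iff' _ m (m + 1) (m + 2) (by simp) (by simp)]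
  exact ⟨etExactAt_of_exactAtS_eps, exactAtS_eps_of_etExactAt⟩

end Generic

/-- Cohomology sheaves of torsion sheaves vanish in degrees up to `m`. -/
def AcycUpTo (K : Precoverage Scheme.{u}) (m : ℕ) : Prop :=
  ∀ (S : Scheme.{u}) [BigSite.EpsCont Ke K S] (F : EtCoh.Ab S), EtCoh.IsTorsion F → ∀ q, q < m →
    IsZero (((eps K S).rightDerived (q + 1)).obj ((piK K S).obj F))

section Restrict

variable {S T : Scheme.{u}} (g : T ⟶ S)

/-- The inverse image of a resolution. -/
def pullRes {A : BigSite.Ab K S} (I : InjectiveResolution A) :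
    InjectiveResolution ((BigSite.pullBig K g AddCommGrpCat.{u + 1}).obj A) :=
  haveI := preservesFiniteLimits_pullBig K g
  haveI := preservesFiniteColimits_pullBig K g
  let P := BigSite.pullBig K g AddCommGrpCat.{u + 1}
  { cocomplex := (P.mapHomologicalComplex (ComplexShape.up ℕ)).obj I.cocomplex
    injective := fun n => haveI := I.injective n; injective_pullBig g K (I.cocomplex.X n)
    ι := (HomologicalComplex.singleMapHomologicalComplex P (ComplexShape.up ℕ) 0).inv.app A ≫
      (P.mapHomologicalComplex (ComplexShape.up ℕ)).map I.ι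
    quasiIso := inferInstance }

theorem etBdry_restrict {L : CochainComplex (BigSite.Ab K S) ℕ} {m : ℕ} {U : Over T}
    {c : (L.X (m + 1)).obj.obj (op ((Over.map g).obj U))} (h : EtBdry L m ((Over.map g).obj U) c) :
    EtBdry (((BigSite.pullBig K g AddCommGrpCat.{u + 1}).mapHomologicalComplex (ComplexShape.up ℕ)).obj L) m U c :=
  (Over.map g).cover_lift (QuotSh.J Ke T) (QuotSh.J Ke S) h

theorem etBdry_unrestrict {L : CochainComplex (BigSite.Ab K S) ℕ} {m : ℕ} {U : Over T}
    {c : (L.X (m + 1)).obj.obj (op ((Over.map g).obj U))}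
    (h : EtBdry (((BigSite.pullBig K g AddCommGrpCat.{u + 1}).mapHomologicalComplex (ComplexShape.up ℕ)).obj L) m U c) :
    EtBdry L m ((Over.map g).obj U) c :=
  FppfCmp.je_pushforward g h _ fun _ _ hf => hf

end Restrict

/-- Direct images of resolutions of acyclic torsion sheaves reflect étale local coboundaries. -/
theorem etBdry_push (hPBC : PBC.{u}) {V S : Scheme.{u}} (h : V ⟶ S) [IsProper h] {J : EtCoh.Ab V}
    (hJ : PushAcyc J) (N : CochainComplex (BigSite.Ab Ke V) ℕ) [∀ n, Injective (N.X n)]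
    (η : (BigSite.piEtPull Ke V).obj J ⟶ N.X 0) (w : η ≫ N.d 0 1 = 0) [Mono η]
    (hη : (ShortComplex.mk η _ w).Exact) (m : ℕ) (hN : ∀ k, k + 1 ≤ m → ExactAtS N k) (U : Over S)
    (x : (N.X (m + 1)).obj.obj (op ((Over.pullback h).obj U)))
    (hx : IsLocBdry (QuotSh.J Ke V) N m ((Over.pullback h).obj U) x) :
    EtBdry (((BigSite.pushBig Ke h AddCommGrpCat.{u + 1}).mapHomologicalComplex (ComplexShape.up ℕ)).obj N) m U x := by
  let Φ := BigSite.pushBig Ke h AddCommGrpCat.{u + 1}
  let I := InjectiveResolution.of ((BigSite.piEtPull Ke V).obj J)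
  haveI : ∀ n, Injective (I.cocomplex.X n) := I.injective
  obtain ⟨τ, hτ⟩ : ∃ τ : I.cocomplex ⟶ N, I.ι.f 0 ≫ τ.f 0 = η :=
    (SpSeqLib.ExactResolution.ofInjective I).exists_desc N η w
  obtain ⟨a, b, s, t, hb, -, ht⟩ := partInv_of_exact τ (I.ι.f 0) η I.ι_f_zero_comp_complex_d w I.exact₀ hη
    (Iso.refl _) (hτ.trans (Category.id_comp _).symm) m (fun k _ => I.exact_succ k) hN
  let P := (Over.pullback h).obj U
  have h1 : appJ (b ≫ I.cocomplex.d (m + 1) (m + 2)) P x = 0 :=
    appJ_eq_zero_of_isLocBdry (K := N) _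
      (by rw [← Category.assoc, hb, Category.assoc, I.cocomplex.d_comp_d, comp_zero]) P x hx
  have h2 : appJ (b ≫ τ.f (m + 1) - 𝟙 _ - t ≫ N.d m (m + 1)) P x = 0 :=
    appJ_eq_zero_of_isLocBdry (K := N) _ ht P x hx
  have hex : ExactAtS ((Φ.mapHomologicalComplex (ComplexShape.up ℕ)).obj I.cocomplex) m := by
    have := IsZero.of_iso (isZero_RpushBig_pi hPBC h hJ m) (I.isoRightDerivedObj Φ (m + 1)).symm
    change IsZero (HomologicalComplex.homology _ (m + 1)) at this
    rw [← HomologicalComplex.exactAt_iff_isZero_homology,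
      HomologicalComplex.exactAt_iff' _ m (m + 1) (m + 2) (by simp) (by simp)] at this
    exact this
  refine (QuotSh.J Ke S).superset_covering ?_
    (FppfCmp.imageSieve_mem_of_exact hex U (appJ b P x) h1)
  rintro W g ⟨y, hy⟩
  let xW := (N.X (m + 1)).obj.map ((Over.pullback h).map g).op x
  refine ⟨appJ (τ.f m) ((Over.pullback h).obj W) y - appJ t ((Over.pullback h).obj W) xW, ?_⟩
  show appJ (N.d m (m + 1)) ((Over.pullback h).obj W) _ = xW
  have h3 := congrArg ((N.X (m + 1)).obj.map ((Over.pullback h).map g).op) h2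
  rw [map_zero, ← appJ_naturality, appJ_sub, appJ_sub, appJ_comp, appJ_comp, appJ_naturality b,
    show appJ (𝟙 (N.X (m + 1))) ((Over.pullback h).obj W) xW = xW from rfl] at h3
  rw [map_sub, ← appJ_comp, τ.comm, appJ_comp]
  change appJ (τ.f (m + 1)) _ (appJ (I.cocomplex.d m (m + 1)) _ y) - _ = _
  rw [show appJ (I.cocomplex.d m (m + 1)) ((Over.pullback h).obj W) y =
    (I.cocomplex.X (m + 1)).obj.map ((Over.pullback h).map g).op (appJ b P x) from hy]
  rw [sub_sub, sub_eq_zero] at h3
  rw [h3]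
  abel

section Key

variable (hK : Fine K) (hPBC : PBC.{u})

include hK hPBC

/-- A cocycle killed on a proper surjective scheme over the base is killed étale locally. -/
theorem etBdry_of_proper_top {m : ℕ} (ih : AcycUpTo K m) {S V : Scheme.{u}} (h : V ⟶ S) [IsProper h]
    [Surjective h] (F : EtCoh.Ab S) (hF : EtCoh.IsTorsion F) [BigSite.EpsCont Ke K S] {A : BigSite.Ab K S}
    (e : A ≅ (piK K S).obj F) (I : InjectiveResolution A)
    (c : (I.cocomplex.X (m + 1)).obj.obj (op (Over.mk (𝟙 S))))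
    (hc : appB (I.cocomplex.d (m + 1) (m + 2)) _ c = 0)
    (hcV : EtBdry I.cocomplex m (Over.mk h)
      ((I.cocomplex.X (m + 1)).obj.map (Over.homMk h (Category.comp_id h) : Over.mk h ⟶ Over.mk (𝟙 S)).op c)) :
    EtBdry I.cocomplex m (Over.mk (𝟙 S)) c := by
  haveI := hK.epsCont V
  let top : Over S := Over.mk (𝟙 S)
  haveI : ∀ n, Injective (I.cocomplex.X n) := I.injective
  obtain ⟨J, a, ha, hJ⟩ := exists_pushAcyc (isTorsion_pull h hF)
  let b := ((EtCoh.pullPushAdj h).homEquiv _ _) a
  haveI : Mono b := by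
    haveI := EtPtsLib.mono_unit_of_surjective h F
    haveI := preservesFiniteLimits_push h
    haveI : (EtCoh.push h).PreservesMonomorphisms := inferInstance
    rw [show b = (EtCoh.pullPushAdj h).unit.app F ≫ (EtCoh.push h).map a from
      (EtCoh.pullPushAdj h).homEquiv_unit _ _ _]
    infer_instance
  let M := (piK K S).obj ((EtCoh.push h).obj J)
  have hSb : (ShortComplex.mk b (cokernel.π b) (cokernel.condition b)).ShortExact :=
    { exact := ShortComplex.exact_cokernel _ }
  have hSK := hSb.map_of_exact (piK K S)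
  haveI hmono : Mono (((eps K S).rightDerived (m + 1)).map ((piK K S).map b)) := by
    rcases m with _ | m
    · haveI : Epi ((eps K S).map (((ShortComplex.mk b (cokernel.π b) (cokernel.condition b)).map (piK K S)).g)) :=
        epi_eps_map_piK K hK S (cokernel.π b)
      exact mono_rightDerived_map_one (eps K S) hSK
    · exact mono_rightDerived_map (eps K S) hSK (m + 1)
        (ih S (cokernel b) (isTorsion_cokernel b (isTorsion_push h hJ.isTorsion)) m (Nat.lt_succ_self m))
  let β : A ⟶ M := e.hom ≫ (piK K S).map b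
  haveI : Mono (((eps K S).rightDerived (m + 1)).map β) := by
    rw [Functor.map_comp]
    infer_instance
  let IM := InjectiveResolution.of M
  haveI : ∀ n, Injective (IM.cocomplex.X n) := IM.injective
  let φ := InjectiveResolution.desc β IM I
  have hφ : I.ι.f 0 ≫ φ.f 0 = β ≫ IM.ι.f 0 := InjectiveResolution.desc_commutes_zero β IM I
  haveI : Mono (HomologicalComplex.homologyMap (((eps K S).mapHomologicalComplex _).map φ) (m + 1)) := by
    have h1 := InjectiveResolution.isoRightDerivedObj_hom_naturality β I IM φ hφ (eps K S) (m + 1)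
    have h2 : HomologicalComplex.homologyMap (((eps K S).mapHomologicalComplex _).map φ) (m + 1) =
        (I.isoRightDerivedObj (eps K S) (m + 1)).inv ≫ ((eps K S).rightDerived (m + 1)).map β ≫
          (IM.isoRightDerivedObj (eps K S) (m + 1)).hom :=
      ((congrArg ((I.isoRightDerivedObj (eps K S) (m + 1)).inv ≫ ·) h1).trans (Iso.inv_hom_id_assoc _ _)).symm
    rw [h2]
    infer_instance
  let IV := InjectiveResolution.of ((piK K V).obj J)
  haveI : ∀ n, Injective (IV.cocomplex.X n) := IV.injective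
  let P := BigSite.pushBig K h AddCommGrpCat.{u + 1}
  haveI : (BigSite.pullBig K h AddCommGrpCat.{u + 1}).PreservesMonomorphisms :=
    haveI := preservesFiniteLimits_pullBig K h
    inferInstance
  haveI := preservesFiniteLimits_pushBig K h
  let Lc := (P.mapHomologicalComplex (ComplexShape.up ℕ)).obj IV.cocomplex
  haveI : ∀ n, Injective (Lc.X n) := fun n =>
    Injective.injective_of_adjoint (BigSite.bigAdj K h AddCommGrpCat.{u + 1}) (IV.cocomplex.X n)
  let ηL : P.obj ((piK K V).obj J) ⟶ Lc.X 0 := P.map (IV.ι.f 0)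
  have wL : ηL ≫ Lc.d 0 1 = 0 :=
    (P.map_comp _ _).symm.trans ((congrArg P.map IV.ι_f_zero_comp_complex_d).trans (P.map_zero _ _))
  have hL0 : (ShortComplex.mk ηL _ wL).Exact := IV.exact₀.map_of_mono_of_preservesKernel P inferInstance inferInstance
  let π₀ := pushPiKIso K hK h J
  obtain ⟨ψ, hψ⟩ : ∃ ψ : IM.cocomplex ⟶ Lc, IM.ι.f 0 ≫ ψ.f 0 = π₀.hom ≫ ηL :=
    (SpSeqLib.ExactResolution.ofInjective IM).exists_desc Lc (π₀.hom ≫ ηL)
    ((Category.assoc _ _ _).trans ((congrArg (π₀.hom ≫ ·) wL).trans comp_zero))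
  let N := epsCx IV.cocomplex
  haveI : ∀ n, Injective (N.X n) := fun n => injective_eps K V (IV.cocomplex.X n)
  let ηN : (BigSite.piEtPull Ke V).obj J ⟶ N.X 0 := (epsPiIso K hK V).inv.app J ≫ (eps K V).map (IV.ι.f 0)
  have wN : ηN ≫ N.d 0 1 = 0 := by
    refine (Category.assoc _ _ _).trans ?_
    rw [show (eps K V).map (IV.ι.f 0) ≫ N.d 0 1 = 0 from
      ((eps K V).map_comp _ _).symm.trans ((congrArg _ IV.ι_f_zero_comp_complex_d).trans ((eps K V).map_zero _ _)),
      comp_zero]
  have hN0 : (ShortComplex.mk ηN _ wN).Exact := by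
    refine ShortComplex.exact_of_iso ?_ (IV.exact₀.map_of_mono_of_preservesKernel (eps K V) inferInstance inferInstance)
    exact ShortComplex.isoMk ((epsPiIso K hK V).app J) (Iso.refl _) (Iso.refl _)
      (((epsPiIso K hK V).hom_inv_id_app_assoc J _).trans (Category.comp_id _).symm)
      ((Category.id_comp _).trans (Category.comp_id _).symm)
  have hN : ∀ k, k + 1 ≤ m → ExactAtS N k := fun k hk =>
    exactAtS_eps_of_etExactAt ((isZero_iff_etExactAt IV k).1 (ih V J hJ.isTorsion k hk))
  have hLs : ∀ k, k + 1 ≤ m → ExactAtS Lc k := fun k hk => by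
    refine exactAtS_of_etExactAt fun U x hx => ?_
    exact etBdry_push hPBC h hJ N ηN wN hN0 k (fun j hj => hN j (hj.trans ((Nat.le_succ k).trans hk))) U x
      (FppfCmp.imageSieve_mem_of_exact (hN k hk) _ x hx)
  have hψp : PartInv ψ m :=
    partInv_of_exact ψ (IM.ι.f 0) ηL IM.ι_f_zero_comp_complex_d wL IM.exact₀ hL0 π₀ hψ m
      (fun k _ => IM.exact_succ k) hLs
  let α : (BigSite.pullBig K h AddCommGrpCat.{u + 1}).obj A ⟶ (piK K V).obj J :=
    ((BigSite.bigAdj K h AddCommGrpCat.{u + 1}).homEquiv _ _).symm (β ≫ π₀.hom)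
  let θ := InjectiveResolution.desc α IV (pullRes h I)
  let unit := (BigSite.bigAdj K h AddCommGrpCat.{u + 1}).unit
  let χ : I.cocomplex ⟶ Lc :=
    { f := fun n => unit.app (I.cocomplex.X n) ≫ P.map (θ.f n)
      comm' := fun i j _ => by
        refine (Category.assoc _ _ _).trans ((congrArg (unit.app _ ≫ ·) (P.map_comp _ _).symm).trans ?_)
        rw [θ.comm]
        refine (congrArg (unit.app _ ≫ ·) (P.map_comp _ _)).trans ((Category.assoc _ _ _).symm.trans ?_)
        exact (congrArg (· ≫ _) (unit.naturality (I.cocomplex.d i j)).symm).trans (Category.assoc _ _ _) }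
  have hχ : I.ι.f 0 ≫ χ.f 0 = I.ι.f 0 ≫ (φ ≫ ψ).f 0 := by
    have hθ : (pullRes h I).ι.f 0 ≫ θ.f 0 = α ≫ IV.ι.f 0 := InjectiveResolution.desc_commutes_zero α IV (pullRes h I)
    rw [show (pullRes h I).ι.f 0 = (BigSite.pullBig K h AddCommGrpCat.{u + 1}).map (I.ι.f 0) by
      simp [pullRes]] at hθ
    refine (Category.assoc _ _ _).symm.trans ((congrArg (· ≫ _) (unit.naturality (I.ι.f 0))).trans
      ((Category.assoc _ _ _).trans ?_))
    refine (congrArg (unit.app _ ≫ ·) ((P.map_comp _ _).symm.trans ((congrArg P.map hθ).trans (P.map_comp _ _)))).trans ?_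
    refine (Category.assoc _ _ _).symm.trans ?_
    refine (congrArg (· ≫ P.map (IV.ι.f 0)) (((BigSite.bigAdj K h AddCommGrpCat.{u + 1}).homEquiv_unit A _ α).symm.trans
      (Equiv.apply_symm_apply _ (β ≫ π₀.hom)))).trans ?_
    rw [HomologicalComplex.comp_f, ← Category.assoc (I.ι.f 0), hφ, Category.assoc, Category.assoc]
    exact congrArg (β ≫ ·) hψ.symm
  let Hom := (SpSeqLib.ExactResolution.ofInjective I).homotopy Lc χ (φ ≫ ψ) hχ
  have hVχ : EtBdry Lc m top (appB (χ.f (m + 1)) top c) := by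
    let U' := (Over.pullback h).obj top
    let cov : (Over.map h).obj U' ⟶ top := (Over.mapPullbackAdj h).counit.app top
    let p : (Over.map h).obj U' ⟶ Over.mk h := Over.homMk (pullback.snd (𝟙 S) h) rfl
    have h1 := etBdry_map hcV p
    rw [map_map_apply, show p ≫ (Over.homMk h (Category.comp_id h) : Over.mk h ⟶ Over.mk (𝟙 S)) = cov from
      Over.mkIdTerminal.hom_ext _ _] at h1
    have h2 := etBdry_chainMap θ (etBdry_restrict h h1)
    have h3 : appB (χ.f (m + 1)) top c =
        appB (θ.f (m + 1)) U' ((I.cocomplex.X (m + 1)).obj.map cov.op c) := by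
      show appB (θ.f (m + 1)) U' (appB (unit.app (I.cocomplex.X (m + 1))) top c) = _
      simp [appB, unit, BigSite.bigAdj, Adjunction.sheafPushforwardContinuous, cov]
      rfl
    rw [h3]
    exact etBdry_push hPBC h hJ N ηN wN hN0 m hN top _ h2
  have hφψ : EtBdry Lc m top (appB (ψ.f (m + 1)) top (appB (φ.f (m + 1)) top c)) := by
    have e1 : ∀ W (g : W ⟶ top), appB (χ.f (m + 1)) W ((I.cocomplex.X (m + 1)).obj.map g.op c) =
        appB (Lc.d m (m + 1)) W (appB (Hom.hom (m + 1) m) W ((I.cocomplex.X (m + 1)).obj.map g.op c)) +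
        appB ((φ ≫ ψ).f (m + 1)) W ((I.cocomplex.X (m + 1)).obj.map g.op c) := fun W g => by
      have hcomm := Hom.comm (m + 1)
      rw [dNext_eq Hom.hom (show (ComplexShape.up ℕ).Rel (m + 1) (m + 2) by simp),
        prevD_eq Hom.hom (show (ComplexShape.up ℕ).Rel m (m + 1) by simp)] at hcomm
      have h0 : appB (I.cocomplex.d (m + 1) (m + 2)) W ((I.cocomplex.X (m + 1)).obj.map g.op c) = 0 :=
        (appJ_naturality _ _ _).trans ((congrArg _ hc).trans (map_zero _))
      rw [hcomm]
      show appB (Hom.hom (m + 2) (m + 1)) W (appB (I.cocomplex.d (m + 1) (m + 2)) W _) + _ + _ = _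
      rw [h0, map_zero, zero_add]
      rfl
    refine (QuotSh.J Ke S).superset_covering ?_ hVχ
    rintro W g ⟨y, hy⟩
    refine ⟨y - appB (Hom.hom (m + 1) m) W ((I.cocomplex.X (m + 1)).obj.map g.op c), ?_⟩
    show appB (Lc.d m (m + 1)) W _ = (Lc.X (m + 1)).obj.map g.op (appB ((φ ≫ ψ).f (m + 1)) top c)
    rw [map_sub, show appB (Lc.d m (m + 1)) W y = (Lc.X (m + 1)).obj.map g.op (appB (χ.f (m + 1)) top c) from hy,
      ← appJ_naturality, ← appJ_naturality, e1 W g]
    abel
  have hcφ : appB (IM.cocomplex.d (m + 1) (m + 2)) top (appB (φ.f (m + 1)) top c) = 0 := by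
    rw [← appJ_comp, φ.comm, appJ_comp]
    exact (congrArg _ hc).trans (map_zero _)
  have hφc : EtBdry IM.cocomplex m top (appB (φ.f (m + 1)) top c) :=
    isLocBdry_of_partInv ψ hψp (IM.exact_succ m) top _ hcφ hφψ
  exact isLocBdry_of_mono_homologyMap (K := epsCx I.cocomplex) (L := epsCx IM.cocomplex)
    (((eps K S).mapHomologicalComplex _).map φ) m top c hc hφc

/-- A cocycle killed on a proper surjective cover is killed étale locally. -/
theorem etBdry_of_proper {m : ℕ} (ih : AcycUpTo K m) {S : Scheme.{u}} (F : EtCoh.Ab S) (hF : EtCoh.IsTorsion F)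
    [BigSite.EpsCont Ke K S] {A : BigSite.Ab K S} (e : A ≅ (piK K S).obj F) (I : InjectiveResolution A)
    {U V : Over S} (p : V ⟶ U) [IsProper p.left] [Surjective p.left]
    (c : (I.cocomplex.X (m + 1)).obj.obj (op U)) (hc : appB (I.cocomplex.d (m + 1) (m + 2)) U c = 0)
    (hcV : EtBdry I.cocomplex m V ((I.cocomplex.X (m + 1)).obj.map p.op c)) : EtBdry I.cocomplex m U c := by
  let g := U.hom
  haveI := hK.epsCont U.left
  let X : Over U.left := Over.mk (𝟙 U.left)
  let n₀ : (Over.map g).obj X ⟶ U := Over.homMk (U := (Over.map g).obj X) (V := U) (𝟙 U.left) rfl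
  let c₁ := (I.cocomplex.X (m + 1)).obj.map n₀.op c
  have hc₁ : appB (I.cocomplex.d (m + 1) (m + 2)) _ c₁ = 0 :=
    (appJ_naturality _ _ _).trans ((congrArg _ hc).trans (map_zero _))
  let e' : (BigSite.pullBig K g AddCommGrpCat.{u + 1}).obj A ≅ (piK K U.left).obj ((EtCoh.pull g).obj F) :=
    (BigSite.pullBig K g AddCommGrpCat.{u + 1}).mapIso e ≪≫ pullPiKIso K hK g F
  let k : (Over.map g).obj (Over.mk p.left) ⟶ V :=
    Over.homMk (U := (Over.map g).obj (Over.mk p.left)) (V := V) (𝟙 V.left) ((Category.id_comp _).trans (Over.w p).symm)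
  have h1 : EtBdry I.cocomplex m ((Over.map g).obj (Over.mk p.left)) ((I.cocomplex.X (m + 1)).obj.map
      ((Over.map g).map (Over.homMk p.left (Category.comp_id _) : Over.mk p.left ⟶ X)).op c₁) := by
    have := etBdry_map hcV k
    rw [map_map_apply] at this
    rw [map_map_apply]
    refine (congrArg (fun r => EtBdry I.cocomplex m _ ((I.cocomplex.X (m + 1)).obj.map (Quiver.Hom.op r) c)) ?_).mp this
    exact Over.OverMorphism.ext ((Category.id_comp _).trans (Category.comp_id _).symm)
  have h2 := etBdry_of_proper_top hK hPBC ih p.left ((EtCoh.pull g).obj F) (isTorsion_pull g hF) e'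
    (pullRes g I) c₁ hc₁ (etBdry_restrict g h1)
  have h3 := etBdry_unrestrict g h2
  refine etBdry_local U c fun x => ⟨(Over.map g).obj X, n₀, inferInstanceAs (Etale (𝟙 U.left)), ⟨x, rfl⟩, h3⟩

/-- Étale local vanishing is local for the finer topology. -/
theorem etBdry_of_saturate (hph : PhLike K) {m : ℕ} (ih : AcycUpTo K m) {S : Scheme.{u}} (F : EtCoh.Ab S)
    (hF : EtCoh.IsTorsion F) [BigSite.EpsCont Ke K S] {A : BigSite.Ab K S} (e : A ≅ (piK K S).obj F)
    (I : InjectiveResolution A) {T : Scheme.{u}} {R : Sieve T} (hR : K.Saturate T R) :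
    ∀ (U : Over S) (f : U.left ⟶ T) (c : (I.cocomplex.X (m + 1)).obj.obj (op U)),
      appB (I.cocomplex.d (m + 1) (m + 2)) U c = 0 →
      (∀ (W : Over S) (g : W ⟶ U), R.arrows (g.left ≫ f) →
        EtBdry I.cocomplex m W ((I.cocomplex.X (m + 1)).obj.map g.op c)) →
      EtBdry I.cocomplex m U c := by
  induction hR with
  | top T =>
    intro U f c _ h
    have := h U (𝟙 U) trivial
    rwa [op_id, CategoryTheory.Functor.map_id] at this
  | pullback T R _ T' k ih' =>
    intro U f c hc h
    exact ih' U (f ≫ k) c hc fun W g hg => h W g (show R.arrows ((g.left ≫ f) ≫ k) by rwa [Category.assoc])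
  | transitive T R R' _ _ ih₁ ih₂ =>
    intro U f c hc h
    refine ih₁ U f c hc fun W g hg => ih₂ hg W (𝟙 _) _ ((appJ_naturality _ _ _).trans
      ((congrArg _ hc).trans (map_zero _))) fun W' k hk => ?_
    rw [map_map_apply]
    refine h W' (k ≫ g) ?_
    show R'.arrows ((k ≫ g).left ≫ f)
    simpa using hk
  | of T P hP =>
    intro U f c hc h
    refine etBdry_local U c fun x => ?_
    obtain ⟨_, ⟨V₀, hV₀, rfl⟩, hxV, -⟩ :=
      T.isBasis_affineOpens.exists_subset_of_mem_open (Set.mem_univ (f x)) isOpen_univ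
    obtain ⟨W₀, p, hp, hps, hloc⟩ := hph P hP ⟨V₀, hV₀⟩
    let O : U.left.Opens := f ⁻¹ᵁ V₀
    let U' : Over S := Over.mk (O.ι ≫ U.hom)
    let i : U' ⟶ U := Over.homMk (U := U') (V := U) O.ι rfl
    let q : O.toScheme ⟶ (V₀ : Scheme.{u}) := f ∣_ V₀
    let W' : Over S := Over.mk (pullback.fst q p ≫ O.ι ≫ U.hom)
    let p' : W' ⟶ U' := Over.homMk (U := W') (V := U') (pullback.fst q p) rfl
    haveI : IsProper p'.left := MorphismProperty.pullback_fst q p hp
    haveI : Surjective p'.left := MorphismProperty.pullback_fst q p hps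
    refine ⟨U', i, inferInstanceAs (Etale O.ι), ⟨⟨x, hxV⟩, rfl⟩, ?_⟩
    refine etBdry_of_proper hK hPBC ih F hF e I p' _
      ((appJ_naturality _ _ _).trans ((congrArg _ hc).trans (map_zero _))) ?_
    refine etBdry_local W' _ fun w => ?_
    obtain ⟨Z, j, hj, hwj, hgen⟩ := hloc (pullback.snd q p w)
    let O' : W'.left.Opens := pullback.snd q p ⁻¹ᵁ j.opensRange
    let Z' : Over S := Over.mk (O'.ι ≫ W'.hom)
    let iz : Z' ⟶ W' := Over.homMk (U := Z') (V := W') O'.ι rfl
    refine ⟨Z', iz, inferInstanceAs (Etale O'.ι), ⟨⟨w, hwj⟩, rfl⟩, ?_⟩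
    rw [map_map_apply, map_map_apply]
    refine h Z' _ ?_
    have hrange : Set.range (O'.ι ≫ pullback.snd q p) ⊆ Set.range j := by
      rintro _ ⟨z, rfl⟩
      rw [Scheme.Hom.comp_apply]
      exact z.2
    let l := IsOpenImmersion.lift j (O'.ι ≫ pullback.snd q p) hrange
    have hl : l ≫ j = O'.ι ≫ pullback.snd q p := IsOpenImmersion.lift_fac _ _ _
    have := (Sieve.generate P).downward_closed hgen l
    refine (congrArg (fun r => (Sieve.generate P).arrows r) ?_).mp this
    show l ≫ j ≫ p ≫ Scheme.Opens.ι V₀ = ((iz ≫ p') ≫ i).left ≫ f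
    rw [← Category.assoc l, hl, Category.assoc]
    show O'.ι ≫ pullback.snd q p ≫ p ≫ Scheme.Opens.ι V₀ = ((O'.ι ≫ pullback.fst q p) ≫ O.ι) ≫ f
    rw [← pullback.condition_assoc, Category.assoc, Category.assoc, morphismRestrict_ι]

/-- Torsion sheaves from small étale sites have no higher direct images on big étale sites. -/
theorem acycUpTo (hph : PhLike K) : ∀ m, AcycUpTo K m
  | 0 => fun S _ F _ q hq => absurd hq (Nat.not_lt_zero q)
  | m + 1 => fun S _ F hF q hq => by
    rcases Nat.lt_or_ge q m with hlt | hge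
    · exact acycUpTo hph m S F hF q hlt
    obtain rfl : q = m := by omega
    let I := InjectiveResolution.of ((piK K S).obj F)
    refine (isZero_iff_etExactAt I q).2 fun U c hc => ?_
    have hR : Presheaf.imageSieve (I.cocomplex.d q (q + 1)).hom (U := U) c ∈ QuotSh.J K S U :=
      FppfCmp.imageSieve_mem_of_exact (I.exact_succ q) U c hc
    refine etBdry_of_saturate hK hPBC hph (acycUpTo hph q) F hF (Iso.refl _) I
      (T := U.left) (R := Sieve.overEquiv U _) hR U (𝟙 _) c hc fun W g hg => ?_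
    rw [Category.comp_id, Sieve.overEquiv_iff] at hg
    have hg' : (Presheaf.imageSieve (I.cocomplex.d q (q + 1)).hom (U := U) c).arrows g := by
      let k : W ⟶ Over.mk (g.left ≫ U.hom) := Over.homMk (𝟙 W.left) ((Category.id_comp _).trans (Over.w g))
      have := (Presheaf.imageSieve (I.cocomplex.d q (q + 1)).hom (U := U) c).downward_closed hg k
      refine (congrArg (fun r => (Presheaf.imageSieve (I.cocomplex.d q (q + 1)).hom (U := U) c).arrows r) ?_).mp this
      exact Over.OverMorphism.ext (Category.id_comp _)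
    show Presheaf.imageSieve (I.cocomplex.d q (q + 1)).hom (U := W) _ ∈ _
    rw [FppfCmp.map_mem_imageSieve]
    exact (QuotSh.J Ke S).superset_covering (fun Z k _ => Sieve.downward_closed _ hg' k)
      ((QuotSh.J Ke S).top_mem W)

end Key

end Groth.Agent.PBCCons
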