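import Groth.Agent.PBCCons.BigPush
import Groth.Agent.BigSiteLib.EtHPull
import Groth.Agent.FppfCmp.Push
import Mathlib.CategoryTheory.Adjunction.FullyFaithful
import Mathlib.CategoryTheory.Adjunction.Reflective

/-!
# The big étale site and a finer big site
-/

set_option autoImplicit false
set_option backward.isDefEq.respectTransparency false
set_option backward.isDefEq.respectTransparency.types false
set_option linter.style.haveILetI false
set_option maxHeartbeats 800000

universe u

open CategoryTheory CategoryTheory.Limits AlgebraicGeometry Opposite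

noncomputable section

namespace Groth.Agent.PBCCons

open Groth.Agent.BigSiteLib

local notation "Ke" => Scheme.etalePrecoverage

/-- A precoverage finer than the étale one for which sheaves pulled back from small étale sites are sheaves. -/
structure Fine (K : Precoverage Scheme.{u}) : Prop where
  le : Scheme.etalePrecoverage ≤ K
  isSheaf : ∀ {S : Scheme.{u}} (F : EtCoh.Ab S), Presheaf.IsSheaf (QuotSh.J K S) (piSheaf F).obj

theorem fine_ph : Fine HTop.phPrecoverage.{u} :=
  ⟨etale_le_phPrecoverage, fun F => (piPh F).property⟩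

theorem fine_h : Fine HTop.hPrecoverage.{u} :=
  ⟨etale_le_hPrecoverage, fun F => (piH F).property⟩

theorem fine_fppf : Fine Scheme.fppfPrecoverage.{u} :=
  ⟨BigSite.etalePrecoverage_le_fppfPrecoverage, fun F => (piFppf F).property⟩

variable {K : Precoverage Scheme.{u}} (hK : Fine K) (S : Scheme.{u})

include hK in
theorem Fine.je_le : QuotSh.J Ke S ≤ QuotSh.J K S := BigSite.J_mono hK.le S

include hK in
theorem Fine.epsCont : BigSite.EpsCont Ke K S := BigSite.epsCont_of_le hK.le S

variable (K) [BigSite.EpsCont Ke K S]

/-- Restriction to the big étale site. -/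
abbrev eps : BigSite.Ab K S ⥤ BigSite.Ab Ke S := BigSite.eps Ke K S AddCommGrpCat.{u + 1}

instance full_eps : (eps K S).Full where
  map_surjective {G H} a := ⟨⟨a.hom⟩, rfl⟩

instance faithful_eps : (eps K S).Faithful where
  map_injective {G H a b} h := ObjectProperty.hom_ext _ (congrArg (fun t => t.hom) h :)

/-- Sheafification for the finer topology. -/
abbrev epsL : BigSite.Ab Ke S ⥤ BigSite.Ab K S :=
  sheafToPresheaf _ _ ⋙ presheafToSheaf (QuotSh.J K S) AddCommGrpCat.{u + 1}

/-- Sheafification is left adjoint to restriction. -/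
def epsLAdj : epsL K S ⊣ eps K S :=
  Adjunction.mkOfHomEquiv
    { homEquiv := fun X G => ((sheafificationAdjunction (QuotSh.J K S) AddCommGrpCat.{u + 1}).homEquiv X.obj G).trans
        { toFun := fun a => ⟨a⟩
          invFun := fun b => b.hom
          left_inv := fun _ => rfl
          right_inv := fun _ => rfl }
      homEquiv_naturality_left_symm := fun {X' X Y} f g =>
        (sheafificationAdjunction (QuotSh.J K S) AddCommGrpCat.{u + 1}).homEquiv_naturality_left_symm f.hom g.hom
      homEquiv_naturality_right := fun {X Y Y'} f g => ObjectProperty.hom_ext _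
        ((sheafificationAdjunction (QuotSh.J K S) AddCommGrpCat.{u + 1}).homEquiv_naturality_right f g) }

instance isIso_epsLAdj_counit : IsIso (epsLAdj K S).counit := inferInstance

instance preservesFiniteLimits_epsL : PreservesFiniteLimits (epsL K S) := comp_preservesFiniteLimits _ _

instance preservesFiniteColimits_epsL : PreservesFiniteColimits (epsL K S) :=
  haveI : PreservesColimitsOfSize.{0, 0} (epsL K S) := (epsLAdj K S).leftAdjoint_preservesColimits
  PreservesColimitsOfSize.preservesFiniteColimits _

instance additive_epsL : (epsL K S).Additive := (epsLAdj K S).left_adjoint_additive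

instance preservesFiniteLimits_eps : PreservesFiniteLimits (eps K S) :=
  haveI : PreservesLimitsOfSize.{0, 0} (eps K S) := (epsLAdj K S).rightAdjoint_preservesLimits
  PreservesLimitsOfSize.preservesFiniteLimits _

theorem injective_eps (G : BigSite.Ab K S) [Injective G] : Injective ((eps K S).obj G) :=
  Injective.injective_of_adjoint (epsLAdj K S) G

/-- Complexes exact on the big étale site are exact on the finer site. -/
theorem exact_of_exact_eps (T : ShortComplex (BigSite.Ab K S)) (h : (T.map (eps K S)).Exact) : T.Exact :=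
  ShortComplex.exact_of_iso (T.mapNatIso (asIso (epsLAdj K S).counit) : T.map (eps K S ⋙ epsL K S) ≅ T)
    (h.map (epsL K S))

/-- `π⁻¹` to the finer site. -/
abbrev piK : EtCoh.Ab S ⥤ BigSite.Ab K S := BigSite.piEtPull Ke S ⋙ epsL K S

instance preservesFiniteLimits_piK : PreservesFiniteLimits (piK K S) := comp_preservesFiniteLimits _ _

instance preservesFiniteColimits_piK : PreservesFiniteColimits (piK K S) := comp_preservesFiniteColimits _ _

instance additive_piK : (piK K S).Additive := inferInstance

/-- The underlying étale sheaf. -/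
def epsPiIso : piK K S ⋙ eps K S ≅ BigSite.piEtPull Ke S :=
  haveI : ∀ F, IsIso ((Functor.whiskerLeft (BigSite.piEtPull Ke S) (epsLAdj K S).unit).app F) := fun F => by
    let P : BigSite.Ab K S := ⟨(piSheaf F).obj, hK.isSheaf F⟩
    exact (epsLAdj K S).isIso_unit_app_of_iso (show (BigSite.piEtPull Ke S).obj F ≅ (eps K S).obj P from
      Iso.refl _)
  haveI := NatIso.isIso_of_isIso_app (Functor.whiskerLeft (BigSite.piEtPull Ke S) (epsLAdj K S).unit)
  (asIso (Functor.whiskerLeft (BigSite.piEtPull Ke S) (epsLAdj K S).unit)).symm

include hK in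
theorem epi_eps_map_piK {F G : EtCoh.Ab S} (a : F ⟶ G) [Epi a] : Epi ((eps K S).map ((piK K S).map a)) := by
  show Epi ((piK K S ⋙ eps K S).map a)
  rw [show (piK K S ⋙ eps K S).map a = (epsPiIso K hK S).hom.app F ≫ (BigSite.piEtPull Ke S).map a ≫
      (epsPiIso K hK S).inv.app G by
    rw [← Category.assoc, ← (epsPiIso K hK S).hom.naturality, Category.assoc, Iso.hom_inv_id_app, Category.comp_id]]
  infer_instance

variable {S} {T : Scheme.{u}} (g : T ⟶ S) [BigSite.EpsCont Ke K T]

/-- Restriction to the étale site commutes with inverse images. -/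
def epsPullIso : eps K S ⋙ BigSite.pullBig Ke g AddCommGrpCat.{u + 1} ≅
    BigSite.pullBig K g AddCommGrpCat.{u + 1} ⋙ eps K T :=
  NatIso.ofComponents (fun _ => Iso.refl _)

/-- Restriction to the étale site commutes with direct images. -/
def epsPushIso : BigSite.pushBig K g AddCommGrpCat.{u + 1} ⋙ eps K S ≅
    eps K T ⋙ BigSite.pushBig Ke g AddCommGrpCat.{u + 1} :=
  NatIso.ofComponents (fun _ => Iso.refl _)

/-- Inverse images of sheaves from the small étale site. -/
def pullPiKIso (F : EtCoh.Ab S) :
    (BigSite.pullBig K g AddCommGrpCat.{u + 1}).obj ((piK K S).obj F) ≅ (piK K T).obj ((EtCoh.pull g).obj F) :=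
  (Functor.FullyFaithful.ofFullyFaithful (eps K T)).preimageIso
    ((epsPullIso K g).symm.app ((piK K S).obj F) ≪≫
      (BigSite.pullBig Ke g AddCommGrpCat.{u + 1}).mapIso ((epsPiIso K hK S).app F) ≪≫
      (Groth.Agent.FppfCmp.pullPiIso g).app F ≪≫ ((epsPiIso K hK T).app _).symm)

/-- Direct images of sheaves from the small étale site along proper morphisms. -/
def pushPiKIso [IsProper g] (J : EtCoh.Ab T) :
    (piK K S).obj ((EtCoh.push g).obj J) ≅ (BigSite.pushBig K g AddCommGrpCat.{u + 1}).obj ((piK K T).obj J) :=
  haveI := isIso_piPushNat g J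
  (Functor.FullyFaithful.ofFullyFaithful (eps K S)).preimageIso
    ((epsPiIso K hK S).app _ ≪≫ asIso ((piPushNat g).app J) ≪≫
      (BigSite.pushBig Ke g AddCommGrpCat.{u + 1}).mapIso ((epsPiIso K hK T).app J).symm ≪≫
      (epsPushIso K g).symm.app ((piK K T).obj J))

end Groth.Agent.PBCCons
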